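/-
Basic facts on the cotangent functors: the relation description of L₂, the exact sequence
L₂ → L₁ → I/I² → 0, cocycles as maps out of I/I², T⁰ as derivations.
-/
import Groth.Prelude.Def_CotT2
import Mathlib.RingTheory.Extension.Cotangent.Basic

universe u v w t m

open TensorProduct

noncomputable section

namespace Groth.Agent.CotT3

open _root_.CotT

variable {A : Type u} {B : Type v} {ι : Type w} {σ : Type t}
variable [CommRing A] [CommRing B] [Algebra A B]
variable (P : Algebra.Presentation A B ι σ)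

theorem algebraMap_surjective : Function.Surjective (algebraMap P.toExtension.Ring B) :=
  P.toExtension.algebraMap_surjective

/-- Base change along the surjection R → B: every element is of the form `1 ⊗ n`. -/
theorem exists_one_tmul {N : Type*} [AddCommMonoid N] [Module P.toExtension.Ring N]
    (x : B ⊗[P.toExtension.Ring] N) : ∃ n, x = (1 : B) ⊗ₜ n := by
  induction x using TensorProduct.induction_on with
  | zero => exact ⟨0, by rw [tmul_zero]⟩
  | tmul b n =>
    obtain ⟨r, rfl⟩ := algebraMap_surjective P b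
    exact ⟨r • n, by rw [tmul_smul, smul_tmul', Algebra.smul_def, mul_one]⟩
  | add x y hx hy =>
    obtain ⟨n, rfl⟩ := hx
    obtain ⟨n', rfl⟩ := hy
    exact ⟨n + n', by rw [tmul_add]⟩

theorem one_tmul_smul {N : Type*} [AddCommMonoid N] [Module P.toExtension.Ring N] (r : P.toExtension.Ring) (n : N) :
    (1 : B) ⊗ₜ[P.toExtension.Ring] (r • n) = algebraMap P.toExtension.Ring B r • ((1 : B) ⊗ₜ n) := by
  rw [tmul_smul, algebraMap_smul]

/-- The class in L₂ of an element of the relation module. -/
def L2mk : relKer P →ₗ[P.toExtension.Ring] L2 P :=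
  ((LinearMap.range ((trivRelKer P).subtype.baseChange B)).mkQ.restrictScalars P.toExtension.Ring) ∘ₗ
    (TensorProduct.mk P.toExtension.Ring B (relKer P) 1)

theorem L2mk_apply (q : relKer P) : L2mk P q = Submodule.Quotient.mk ((1 : B) ⊗ₜ q) := rfl

theorem L2mk_surjective : Function.Surjective (L2mk P) := by
  intro z
  obtain ⟨x, rfl⟩ := Submodule.Quotient.mk_surjective _ z
  obtain ⟨q, rfl⟩ := exists_one_tmul P x
  exact ⟨q, rfl⟩

theorem d2_L2mk (q : relKer P) : d2 P (L2mk P q) = (1 : B) ⊗ₜ (q : relMod P) := by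
  rw [L2mk_apply, d2_mk_tmul]

theorem smul_mem_trivRel_of_mem_ker {r : P.toExtension.Ring} (hr : r ∈ P.toExtension.ker) (q : relKer P) :
    r • (q : relMod P) ∈ trivRel P := by
  have : r ∈ LinearMap.range (jmap P) := by rw [range_jmap]; exact hr
  obtain ⟨x, rfl⟩ := this
  refine Submodule.subset_span ⟨x, q, ?_⟩
  rw [show jmap P (q : relMod P) = 0 from q.2, zero_smul, sub_zero]

theorem L2mk_eq_zero_iff (q : relKer P) : L2mk P q = 0 ↔ (q : relMod P) ∈ trivRel P := by
  constructor
  · intro hq
    let π : relKer P →ₗ[P.toExtension.Ring] relMod P ⧸ trivRel P := (trivRel P).mkQ ∘ₗ (relKer P).subtype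
    have key : ∀ x : P.toExtension.Ring, x ∈ P.toExtension.ker → ∀ y : relKer P, x • π y = 0 := by
      intro x hx y
      rw [← map_smul, LinearMap.comp_apply, Submodule.mkQ_apply, Submodule.Quotient.mk_eq_zero]
      exact smul_mem_trivRel_of_mem_ker P hx y
    have hσ : ∀ (x : P.toExtension.Ring) (y : relKer P),
        P.toExtension.σ (algebraMap P.toExtension.Ring B x) • π y = x • π y := by
      intro x y
      rw [← sub_eq_zero, ← sub_smul]
      exact key _ (by rw [RingHom.mem_ker, map_sub, Algebra.Extension.algebraMap_σ, sub_self]) y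
    let β : B →ₗ[P.toExtension.Ring] relKer P →ₗ[P.toExtension.Ring] relMod P ⧸ trivRel P :=
      { toFun := fun b => P.toExtension.σ b • π
        map_add' := fun b c => by
          obtain ⟨x, rfl⟩ := algebraMap_surjective P b
          obtain ⟨y, rfl⟩ := algebraMap_surjective P c
          ext q
          simp only [← map_add, LinearMap.smul_apply, LinearMap.add_apply, hσ, add_smul]
        map_smul' := fun r b => by
          obtain ⟨x, rfl⟩ := algebraMap_surjective P b
          ext q
          rw [Algebra.smul_def, ← map_mul]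
          simp only [LinearMap.smul_apply, hσ, RingHom.id_apply, mul_smul] }
    have hl : ∀ z ∈ LinearMap.range ((trivRelKer P).subtype.baseChange B), TensorProduct.lift β z = 0 := by
      rintro _ ⟨z, rfl⟩
      induction z using TensorProduct.induction_on with
      | zero => simp
      | add x y hx hy => rw [map_add, map_add, hx, hy, add_zero]
      | tmul b k =>
        rw [LinearMap.baseChange_tmul, TensorProduct.lift.tmul]
        change P.toExtension.σ b • π k = 0
        rw [show π (k : relKer P) = 0 from (Submodule.Quotient.mk_eq_zero _).2 k.2, smul_zero]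
    rw [L2mk_apply, Submodule.Quotient.mk_eq_zero] at hq
    have h1 := hl _ hq
    rw [TensorProduct.lift.tmul] at h1
    change P.toExtension.σ 1 • π q = 0 at h1
    rw [← map_one (algebraMap P.toExtension.Ring B), hσ, one_smul, LinearMap.comp_apply, Submodule.mkQ_apply,
      Submodule.Quotient.mk_eq_zero] at h1
    exact h1
  · intro hq
    rw [L2mk_apply, Submodule.Quotient.mk_eq_zero]
    exact ⟨(1 : B) ⊗ₜ ⟨q, hq⟩, rfl⟩

theorem L2mk_eq_iff (q q' : relKer P) : L2mk P q = L2mk P q' ↔ (q : relMod P) - q' ∈ trivRel P := by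
  rw [← sub_eq_zero, ← map_sub, L2mk_eq_zero_iff, Submodule.coe_sub]

/-- A B-linear map out of L₂ is determined by its values on the classes of relations. -/
theorem L2_hom_ext {M : Type*} [AddCommMonoid M] [Module B M] {φ ψ : L2 P →ₗ[B] M}
    (h : ∀ q, φ (L2mk P q) = ψ (L2mk P q)) : φ = ψ :=
  LinearMap.ext fun z => by
    obtain ⟨q, rfl⟩ := L2mk_surjective P z
    exact h q

theorem toCot_surjective : Function.Surjective (toCot P) := by
  intro c
  obtain ⟨⟨x, hx⟩, rfl⟩ := Algebra.Extension.Cotangent.mk_surjective c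
  have : x ∈ LinearMap.range (jmap P) := by rw [range_jmap]; exact hx
  obtain ⟨f, rfl⟩ := this
  exact ⟨(1 : B) ⊗ₜ f, by rw [toCot_tmul, one_smul, jker_apply]⟩

theorem exact_d2_toCot : Function.Exact (d2 P) (toCot P) := by
  intro y
  constructor
  · intro hy
    obtain ⟨f, rfl⟩ := exists_one_tmul P y
    rw [toCot_tmul, one_smul, Algebra.Extension.Cotangent.mk_eq_zero_iff, pow_two] at hy
    change jmap P f ∈ P.toExtension.ker * P.toExtension.ker at hy
    have key : ∀ x ∈ P.toExtension.ker * P.toExtension.ker,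
        ∃ g : relMod P, jmap P g = x ∧ (1 : B) ⊗ₜ[P.toExtension.Ring] g = (0 : L1 P) := by
      intro x hx
      refine Submodule.mul_induction_on hx ?_ ?_
      · intro a ha b hb
        have : b ∈ LinearMap.range (jmap P) := by rw [range_jmap]; exact hb
        obtain ⟨g, rfl⟩ := this
        refine ⟨a • g, by rw [map_smul, smul_eq_mul], ?_⟩
        rw [one_tmul_smul, RingHom.mem_ker.1 ha, zero_smul]
      · rintro _ _ ⟨g, rfl, hg⟩ ⟨g', rfl, hg'⟩
        exact ⟨g + g', map_add _ _ _, by rw [tmul_add, hg, hg', add_zero]⟩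
    obtain ⟨g, hg, hg0⟩ := key _ hy
    refine ⟨L2mk P ⟨f - g, ?_⟩, ?_⟩
    · change jmap P (f - g) = 0
      rw [map_sub, hg, sub_self]
    · rw [d2_L2mk, tmul_sub, hg0, sub_zero]
  · rintro ⟨z, rfl⟩
    exact LinearMap.congr_fun (toCot_comp_d2 P) z

variable (M : Type m) [AddCommGroup M] [Module B M]

theorem comp_toCot_mem_cocycles1 (φ : P.toExtension.Cotangent →ₗ[B] M) : φ ∘ₗ toCot P ∈ cocycles1 P M := by
  rw [LinearMap.mem_ker, d2Star_apply, LinearMap.comp_assoc, toCot_comp_d2, LinearMap.comp_zero]

theorem exists_eq_comp_toCot {c : L1 P →ₗ[B] M} (hc : c ∈ cocycles1 P M) :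
    ∃ φ : P.toExtension.Cotangent →ₗ[B] M, c = φ ∘ₗ toCot P := by
  refine ⟨((LinearMap.ker (toCot P)).liftQ c ?_) ∘ₗ
    (LinearMap.quotKerEquivOfSurjective (toCot P) (toCot_surjective P)).symm.toLinearMap, ?_⟩
  · intro y hy
    obtain ⟨z, rfl⟩ := (exact_d2_toCot P y).1 hy
    exact LinearMap.congr_fun (LinearMap.mem_ker.1 hc) z
  · ext y
    have : (LinearMap.quotKerEquivOfSurjective (toCot P) (toCot_surjective P)).symm (toCot P y) =
        Submodule.Quotient.mk y := by
      rw [LinearEquiv.symm_apply_eq, LinearMap.quotKerEquivOfSurjective_apply_mk]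
    simp [this]

theorem homToT1_surjective : Function.Surjective (homToT1 P M) := by
  intro x
  obtain ⟨⟨c, hc⟩, rfl⟩ := Submodule.Quotient.mk_surjective _ x
  obtain ⟨φ, rfl⟩ := exists_eq_comp_toCot P M hc
  exact ⟨φ, rfl⟩

theorem ker_homToT1 :
    LinearMap.ker (homToT1 P M) = LinearMap.range (LinearMap.lcomp B M P.toExtension.cotangentComplex) := by
  ext φ
  rw [LinearMap.mem_ker]
  change Submodule.Quotient.mk (⟨φ ∘ₗ toCot P, comp_toCot_mem_cocycles1 P M φ⟩ : cocycles1 P M) = (0 : T1 P M) ↔ _
  rw [Submodule.Quotient.mk_eq_zero]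
  constructor
  · rintro ⟨ψ, hψ⟩
    refine ⟨ψ, LinearMap.ext fun c => ?_⟩
    obtain ⟨y, rfl⟩ := toCot_surjective P c
    exact LinearMap.congr_fun hψ y
  · rintro ⟨ψ, rfl⟩
    exact ⟨ψ, rfl⟩

theorem ker_d1Star :
    LinearMap.ker (d1Star P M) = LinearMap.ker (LinearMap.lcomp B M P.toExtension.cotangentComplex) := by
  ext φ
  rw [LinearMap.mem_ker, LinearMap.mem_ker, d1Star_apply]
  constructor
  · intro h
    refine LinearMap.ext fun c => ?_
    obtain ⟨y, rfl⟩ := toCot_surjective P c
    exact LinearMap.congr_fun h y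
  · intro h
    rw [d1, ← LinearMap.comp_assoc]
    change (LinearMap.lcomp B M P.toExtension.cotangentComplex φ) ∘ₗ toCot P = 0
    rw [h, LinearMap.zero_comp]

theorem subsingleton_T1_iff : Subsingleton (T1 P M) ↔
    ∀ φ : P.toExtension.Cotangent →ₗ[B] M, ∃ ψ : L0 P →ₗ[B] M, ψ ∘ₗ P.toExtension.cotangentComplex = φ := by
  constructor
  · intro h φ
    have : φ ∈ LinearMap.ker (homToT1 P M) := Subsingleton.elim _ _
    rw [ker_homToT1] at this
    exact this
  · intro h
    refine subsingleton_of_forall_eq 0 fun x => ?_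
    obtain ⟨φ, rfl⟩ := homToT1_surjective P M x
    rw [← LinearMap.mem_ker, ker_homToT1]
    exact h φ

end Groth.Agent.CotT3
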