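/-
The maps induced on T⁰, T¹, T² by a morphism of presentations depend only on the square of rings.
-/
import Groth.Agent.Lib.CotT3.Basic
import Mathlib.Tactic.Module
import Mathlib.Tactic.LinearCombination

set_option backward.isDefEq.respectTransparency false

universe u v w t u' v' w' t' m

open TensorProduct

noncomputable section

namespace Groth.Agent.CotT3

open _root_.CotT

section Cross

variable {R : Type*} [CommRing R] {N : Type*} [AddCommGroup N] [Module R N]

/-- For `j : N → R` with `j a • b = j b • a`, the ring `R ⊕ N` with `(x,a)(y,b) = (xy, xb + ya + j(a)b)`. -/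
@[ext]
structure Cross (j : N →ₗ[R] R) (hj : ∀ a b, j a • b = j b • a) where
  fst : R
  snd : N

variable {j : N →ₗ[R] R} {hj : ∀ a b, j a • b = j b • a}

instance : Zero (Cross j hj) := ⟨⟨0, 0⟩⟩
instance : One (Cross j hj) := ⟨⟨1, 0⟩⟩
instance : Add (Cross j hj) := ⟨fun a b => ⟨a.fst + b.fst, a.snd + b.snd⟩⟩
instance : Neg (Cross j hj) := ⟨fun a => ⟨-a.fst, -a.snd⟩⟩
instance : Mul (Cross j hj) := ⟨fun a b => ⟨a.fst * b.fst, a.fst • b.snd + b.fst • a.snd + j a.snd • b.snd⟩⟩

@[simp] theorem Cross.zero_fst : (0 : Cross j hj).fst = 0 := rfl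
@[simp] theorem Cross.zero_snd : (0 : Cross j hj).snd = 0 := rfl
@[simp] theorem Cross.one_fst : (1 : Cross j hj).fst = 1 := rfl
@[simp] theorem Cross.one_snd : (1 : Cross j hj).snd = 0 := rfl
@[simp] theorem Cross.add_fst (a b : Cross j hj) : (a + b).fst = a.fst + b.fst := rfl
@[simp] theorem Cross.add_snd (a b : Cross j hj) : (a + b).snd = a.snd + b.snd := rfl
@[simp] theorem Cross.neg_fst (a : Cross j hj) : (-a).fst = -a.fst := rfl
@[simp] theorem Cross.neg_snd (a : Cross j hj) : (-a).snd = -a.snd := rfl
@[simp] theorem Cross.mul_fst (a b : Cross j hj) : (a * b).fst = a.fst * b.fst := rfl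
@[simp] theorem Cross.mul_snd (a b : Cross j hj) :
    (a * b).snd = a.fst • b.snd + b.fst • a.snd + j a.snd • b.snd := rfl

instance : CommRing (Cross j hj) where
  add_assoc a b c := by ext <;> simp [add_assoc]
  zero_add a := by ext <;> simp
  add_zero a := by ext <;> simp
  add_comm a b := by ext <;> simp [add_comm]
  neg_add_cancel a := by ext <;> simp
  nsmul := nsmulRec
  zsmul := zsmulRec
  mul_assoc a b c := by
    ext
    · simp [mul_assoc]
    · simp only [Cross.mul_fst, Cross.mul_snd, map_add, map_smul, smul_eq_mul, smul_add, smul_smul, add_smul]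
      module
  one_mul a := by ext <;> simp
  mul_one a := by ext <;> simp
  mul_comm a b := by
    ext
    · simp [mul_comm]
    · simp only [Cross.mul_snd, hj b.snd a.snd]; abel
  left_distrib a b c := by
    ext
    · simp [mul_add]
    · simp only [Cross.mul_snd, Cross.add_fst, Cross.add_snd, smul_add, add_smul]; abel
  right_distrib a b c := by
    ext
    · simp [add_mul]
    · simp only [Cross.mul_snd, Cross.add_fst, Cross.add_snd, map_add, smul_add, add_smul]; abel
  zero_mul a := by ext <;> simp
  mul_zero a := by ext <;> simp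

/-- The inclusion `R → Cross`. -/
def Cross.inl : R →+* Cross j hj where
  toFun r := ⟨r, 0⟩
  map_one' := rfl
  map_mul' a b := by ext <;> simp
  map_zero' := rfl
  map_add' a b := by ext <;> simp

/-- The first projection. -/
def Cross.p0 : Cross j hj →+* R where
  toFun a := a.fst
  map_one' := rfl
  map_mul' _ _ := rfl
  map_zero' := rfl
  map_add' _ _ := rfl

/-- The twisted projection `(x,a) ↦ x + j a`. -/
def Cross.p1 : Cross j hj →+* R where
  toFun a := a.fst + j a.snd
  map_one' := by simp
  map_mul' a b := by simp only [Cross.mul_fst, Cross.mul_snd, map_add, map_smul, smul_eq_mul]; ring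
  map_zero' := by simp
  map_add' a b := by simp only [Cross.add_fst, Cross.add_snd, map_add]; ring

end Cross

variable {A : Type u} {B : Type v} {ι : Type w} {σ : Type t}
variable {A' : Type u'} {B' : Type v'} {ι' : Type w'} {σ' : Type t'}
variable [CommRing A] [CommRing B] [Algebra A B] [CommRing A'] [CommRing B'] [Algebra A' B']
variable [Algebra A A'] [Algebra B B'] [Algebra A B'] [IsScalarTower A A' B'] [IsScalarTower A B B']
variable {P : Algebra.Presentation A B ι σ} {P' : Algebra.Presentation A' B' ι' σ'}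

theorem ringHom_C (h : PresHom P P') (a : A) :
    h.ringHom (MvPolynomial.C a) = algebraMap A P'.toExtension.Ring a :=
  MvPolynomial.aeval_C h.hom.val a

theorem ringHom_X (h : PresHom P P') (i : ι) : h.ringHom (MvPolynomial.X i) = h.hom.val i :=
  MvPolynomial.aeval_X h.hom.val i

theorem exists_jmap_eq {x : P'.toExtension.Ring} (hx : algebraMap P'.toExtension.Ring B' x = 0) :
    ∃ w : relMod P', jmap P' w = x := by
  have : x ∈ LinearMap.range (jmap P') := by rw [range_jmap]; exact hx
  exact this

/-- The comparison of two morphisms of presentations on the free modules of relations. -/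
theorem exists_correction (h h' : PresHom P P') :
    ∃ (D : P.toExtension.Ring → relMod P' ⧸ trivRel P') (t : σ → relKer P'), D 0 = 0 ∧
      ∀ f : relMod P, Submodule.Quotient.mk (h'.relModMap f) =
        Submodule.Quotient.mk (h.relModMap f) +
        f.sum (fun s r => h'.ringHom r • (Submodule.Quotient.mk (t s : relMod P') : relMod P' ⧸ trivRel P')) +
        D (jmap P f) := by
  classical
  let jb : (relMod P' ⧸ trivRel P') →ₗ[P'.toExtension.Ring] P'.toExtension.Ring :=
    (trivRel P').liftQ (jmap P') (fun y hy => trivRel_le_relKer P' hy)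
  have hjb : ∀ a b, jb a • b = jb b • a := by
    intro a b
    obtain ⟨x, rfl⟩ := Submodule.Quotient.mk_surjective _ a
    obtain ⟨y, rfl⟩ := Submodule.Quotient.mk_surjective _ b
    rw [← Submodule.Quotient.mk_smul, ← Submodule.Quotient.mk_smul, Submodule.Quotient.eq]
    exact Submodule.subset_span ⟨x, y, rfl⟩
  have hw : ∀ i, ∃ w : relMod P', jmap P' w = h'.hom.val i - h.hom.val i := fun i => exists_jmap_eq (by
    rw [map_sub]
    exact sub_eq_zero.2 (((algebraMap_toExtension P' _).trans (h'.hom.aeval_val i)).trans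
      ((algebraMap_toExtension P' _).trans (h.hom.aeval_val i)).symm))
  choose w hw using hw
  let Φ : P.toExtension.Ring →+* Cross jb hjb :=
    MvPolynomial.eval₂Hom (Cross.inl.comp (algebraMap A P'.toExtension.Ring))
      (fun i => ⟨h.hom.val i, Submodule.Quotient.mk (w i)⟩)
  have hΦC : ∀ a, Φ (MvPolynomial.C a) = Cross.inl (algebraMap A P'.toExtension.Ring a) := fun a =>
    MvPolynomial.eval₂Hom_C _ _ a
  have hΦX : ∀ i, Φ (MvPolynomial.X i) = ⟨h.hom.val i, Submodule.Quotient.mk (w i)⟩ := fun i =>
    MvPolynomial.eval₂Hom_X' _ _ i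
  have h0 : Cross.p0.comp Φ = h.ringHom := by
    refine MvPolynomial.ringHom_ext (fun a => ?_) (fun i => ?_)
    · exact (congrArg Cross.p0 (hΦC a)).trans (ringHom_C h a).symm
    · exact (congrArg Cross.p0 (hΦX i)).trans (ringHom_X h i).symm
  have h1 : Cross.p1.comp Φ = h'.ringHom := by
    refine MvPolynomial.ringHom_ext (fun a => ?_) (fun i => ?_)
    · refine (congrArg Cross.p1 (hΦC a)).trans (Eq.trans ?_ (ringHom_C h' a).symm)
      change _ + jb 0 = _
      rw [map_zero, add_zero]; rfl
    · refine (congrArg Cross.p1 (hΦX i)).trans (Eq.trans ?_ (ringHom_X h' i).symm)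
      change @HAdd.hAdd P'.toExtension.Ring P'.toExtension.Ring _ _ (h.hom.val i) (jmap P' (w i)) = _
      rw [hw]
      exact add_sub_cancel _ _
  have hf0 : ∀ r, (Φ r).fst = h.ringHom r := fun r => RingHom.congr_fun h0 r
  have hf1 : ∀ r, (Φ r).fst + jb (Φ r).snd = h'.ringHom r := fun r => RingHom.congr_fun h1 r
  have ht : ∀ s, ∃ t : relKer P', (Submodule.Quotient.mk (t : relMod P') : relMod P' ⧸ trivRel P') =
      Submodule.Quotient.mk (h'.relVal s) - Submodule.Quotient.mk (h.relVal s) - (Φ (rel P s)).snd := by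
    intro s
    obtain ⟨d, hd⟩ := Submodule.Quotient.mk_surjective _ (Φ (rel P s)).snd
    refine ⟨⟨h'.relVal s - h.relVal s - d, ?_⟩, ?_⟩
    · change jmap P' _ = 0
      rw [map_sub, map_sub, h'.jmap_relVal, h.jmap_relVal,
        show jmap P' d = jb (Φ (rel P s)).snd by rw [← hd]; rfl]
      have := hf1 (rel P s)
      rw [hf0] at this
      linear_combination -this
    · rw [Submodule.Quotient.mk_sub, Submodule.Quotient.mk_sub, hd]
  choose t ht using ht
  refine ⟨fun r => (Φ r).snd, t, by simp, fun f => ?_⟩
  induction f using Finsupp.induction_linear with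
  | zero => simp
  | add f g hf hg =>
    beta_reduce at hf hg ⊢
    rw [map_add, map_add, map_add, Submodule.Quotient.mk_add, Submodule.Quotient.mk_add, hf, hg, map_add,
      Cross.add_snd, Finsupp.sum_add_index' (fun s => by simp) (fun s a b => by rw [map_add, add_smul])]
    abel
  | single s r =>
    beta_reduce
    rw [PresHom.relModMap_single, PresHom.relModMap_single, Submodule.Quotient.mk_smul,
      Submodule.Quotient.mk_smul, Finsupp.sum_single_index (by simp), ht, jmap_single, map_mul, Cross.mul_snd,
      hjb (Φ r).snd]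
    have e1 := hf1 r
    have e2 : jb (Φ r).snd • (Submodule.Quotient.mk (h.relVal s) : relMod P' ⧸ trivRel P') =
        h.ringHom (rel P s) • (Φ r).snd := by
      rw [hjb, show jb (Submodule.Quotient.mk (h.relVal s)) = jmap P' (h.relVal s) from rfl, h.jmap_relVal]
    rw [hf0] at e1
    rw [hf0, hf0, ← hjb (Φ r).snd, ← e1, ← e2]
    simp only [add_smul, smul_sub]
    abel

/-- Two morphisms of presentations give the same maps on L₂ up to a map factoring through d₂, after applying a linear form. -/
theorem exists_comp_d2 (h h' : PresHom P P') {M' : Type m} [AddCommGroup M'] [Module B' M'] [Module B M']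
    [IsScalarTower B B' M'] (ψ : L2 P' →ₗ[B'] M') :
    ∃ χ : L1 P →ₗ[B] M', h'.pull2 M' ψ - h.pull2 M' ψ = χ ∘ₗ d2 P := by
  obtain ⟨D, t, hD, hcor⟩ := exists_correction h h'
  let χ : L1 P →ₗ[B] M' := (L1basis P).constr B (fun s => ψ (L2mk P' (t s)))
  refine ⟨χ, L2_hom_ext P fun q => ?_⟩
  have key : ∀ f : relMod P, ∃ u : relKer P',
      (Submodule.Quotient.mk (u : relMod P') : relMod P' ⧸ trivRel P') =
        f.sum (fun s r => h'.ringHom r • Submodule.Quotient.mk (t s : relMod P')) ∧
      ψ (L2mk P' u) = χ ((1 : B) ⊗ₜ f) := by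
    intro f
    induction f using Finsupp.induction_linear with
    | zero => exact ⟨0, by simp, by simp⟩
    | add f g hf hg =>
      obtain ⟨a, ha, ha'⟩ := hf
      obtain ⟨b, hb, hb'⟩ := hg
      exact ⟨a + b, by rw [Submodule.coe_add, Submodule.Quotient.mk_add, ha, hb,
        Finsupp.sum_add_index' (fun s => by simp) (fun s x y => by rw [map_add, add_smul])],
        by rw [map_add, map_add, ha', hb', tmul_add, map_add]⟩
    | single s r =>
      refine ⟨h'.ringHom r • t s, by rw [Finsupp.sum_single_index (by simp)]; rfl, ?_⟩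
      have e : (1 : B) ⊗ₜ[P.toExtension.Ring] (Finsupp.single s r : relMod P) =
          algebraMap P.toExtension.Ring B r • L1basis P s := by
        rw [L1basis_apply, ← one_tmul_smul, Finsupp.smul_single, smul_eq_mul, mul_one]
      rw [e, map_smul, LinearMap.map_smul χ, Module.Basis.constr_basis,
        ← algebraMap_smul B' (h'.ringHom r) (L2mk P' (t s)), LinearMap.map_smul ψ,
        h'.algebraMap_ringHom, IsScalarTower.algebraMap_smul]
  obtain ⟨u, hu, hu'⟩ := key (q : relMod P)
  rw [LinearMap.sub_apply, LinearMap.comp_apply, d2_L2mk, ← hu', PresHom.pull2_apply, PresHom.pull2_apply,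
    L2mk_apply, PresHom.L2map_mk_tmul, PresHom.L2map_mk_tmul, map_one, ← L2mk_apply, ← L2mk_apply,
    ← map_sub, ← map_sub]
  congr 1
  rw [L2mk_eq_iff, Submodule.coe_sub, ← Submodule.Quotient.eq, Submodule.Quotient.mk_sub,
    PresHom.relKerMap_coe, PresHom.relKerMap_coe, hcor, show jmap P (q : relMod P) = 0 from q.2, hD, hu]
  abel

section Pull

variable (M' : Type m) [AddCommGroup M'] [Module B' M'] [Module B M'] [IsScalarTower B B' M']

theorem T2pull_mk (h : PresHom P P') (ψ : L2 P' →ₗ[B'] M') :
    h.T2pull M' (Submodule.Quotient.mk ψ) = Submodule.Quotient.mk (h.pull2 M' ψ) := rfl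

theorem T1pull_mk (h : PresHom P P') (ψ : cocycles1 P' M') :
    h.T1pull M' (Submodule.Quotient.mk ψ) = Submodule.Quotient.mk (h.cocycles1Pull M' ψ) := rfl

theorem T0pull_coe (h : PresHom P P') (ψ : T0 P' M') :
    (h.T0pull M' ψ : L0 P →ₗ[B] M') = h.pull0 M' (ψ : L0 P' →ₗ[B'] M') := rfl

theorem T2pull_eq (h h' : PresHom P P') : h.T2pull M' = h'.T2pull M' := by
  refine LinearMap.ext fun x => ?_
  obtain ⟨ψ, rfl⟩ := Submodule.Quotient.mk_surjective _ x
  obtain ⟨χ, hχ⟩ := exists_comp_d2 h' h ψ
  rw [T2pull_mk, T2pull_mk, Submodule.Quotient.eq]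
  exact ⟨χ, hχ.symm⟩

theorem T1pull_eq (h h' : PresHom P P') : h.T1pull M' = h'.T1pull M' := by
  refine LinearMap.ext fun x => ?_
  obtain ⟨⟨c, hc⟩, rfl⟩ := Submodule.Quotient.mk_surjective _ x
  obtain ⟨φ, rfl⟩ := exists_eq_comp_toCot P' M' hc
  rw [T1pull_mk, T1pull_mk, Submodule.Quotient.eq]
  let hs := Algebra.Extension.Hom.sub h.hom.toExtensionHom h'.hom.toExtensionHom
  let χ : L0 P →ₗ[B] M' :=
    { toFun := fun x => φ (hs x)
      map_add' := fun a b => by rw [map_add, map_add]
      map_smul' := fun b a => by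
        rw [LinearMap.map_smul, ← IsScalarTower.algebraMap_smul B' b (hs a), LinearMap.map_smul,
          IsScalarTower.algebraMap_smul, RingHom.id_apply] }
  refine ⟨χ, LinearMap.ext fun y => ?_⟩
  change φ (hs (P.toExtension.cotangentComplex (toCot P y))) =
    φ (toCot P' (h.L1map y)) - φ (toCot P' (h'.L1map y))
  rw [← map_sub, PresHom.toCot_L1map, PresHom.toCot_L1map, PresHom.cotMap_apply, PresHom.cotMap_apply]
  congr 1
  exact (LinearMap.congr_fun (Algebra.Extension.Cotangent.map_sub_map h.hom.toExtensionHom h'.hom.toExtensionHom)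
    (toCot P y)).symm

theorem T0pull_eq (h h' : PresHom P P') : h.T0pull M' = h'.T0pull M' := by
  refine LinearMap.ext fun x => Subtype.ext (LinearMap.ext fun y => ?_)
  have hx : ∀ c, (x : L0 P' →ₗ[B'] M') (P'.toExtension.cotangentComplex c) = 0 := by
    have := (ker_d1Star P' M').le x.2
    exact fun c => LinearMap.congr_fun this c
  rw [T0pull_coe, T0pull_coe, PresHom.pull0_apply, PresHom.pull0_apply, ← sub_eq_zero, ← map_sub,
    PresHom.L0map_apply, PresHom.L0map_apply]
  have := LinearMap.congr_fun
    (Algebra.Extension.CotangentSpace.map_sub_map h.hom.toExtensionHom h'.hom.toExtensionHom) y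
  rw [LinearMap.sub_apply] at this
  rw [this]
  exact hx _

end Pull

variable (P P') in
theorem nonempty_presHom : Nonempty (PresHom P P') := by
  let g := Algebra.Generators.defaultHom P.toGenerators P'.toGenerators
  have : ∀ s, ∃ w : relMod P', jmap P' w = g.toExtensionHom.toRingHom (rel P s) := fun s => exists_jmap_eq (by
    rw [g.toExtensionHom.algebraMap_toRingHom, algebraMap_rel, map_zero])
  choose w hw using this
  exact ⟨⟨g, w, hw⟩⟩

end Groth.Agent.CotT3
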