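/-
Composition of morphisms of presentations; independence of the presentation.
-/
import Groth.Agent.Lib.CotT3.Indep

set_option backward.isDefEq.respectTransparency false

universe u v w t u' v' w' t' u'' v'' w'' t'' m

open TensorProduct

noncomputable section

namespace Groth.Agent.CotT3

open _root_.CotT

section L0

variable {A : Type u} {B : Type v} {ι : Type w} {σ : Type t}
variable {A' : Type u'} {B' : Type v'} {ι' : Type w'} {σ' : Type t'}
variable [CommRing A] [CommRing B] [Algebra A B] [CommRing A'] [CommRing B'] [Algebra A' B']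
variable [Algebra A A'] [Algebra B B'] [Algebra A B'] [IsScalarTower A A' B'] [IsScalarTower A B B']
variable {P : Algebra.Presentation A B ι σ} {P' : Algebra.Presentation A' B' ι' σ'}

theorem L0map_one_tmul_D (h : PresHom P P') (r : P.toExtension.Ring) :
    h.L0map ((1 : B) ⊗ₜ KaehlerDifferential.D A P.toExtension.Ring r) =
      (1 : B') ⊗ₜ KaehlerDifferential.D A' P'.toExtension.Ring (h.ringHom r) := by
  rw [PresHom.L0map_apply, Algebra.Extension.CotangentSpace.map_tmul, map_one]
  rfl

end L0

section Comp

variable {A : Type u} {B : Type v} {ι : Type w} {σ : Type t}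
variable {A' : Type u'} {B' : Type v'} {ι' : Type w'} {σ' : Type t'}
variable {A'' : Type u''} {B'' : Type v''} {ι'' : Type w''} {σ'' : Type t''}
variable [CommRing A] [CommRing B] [Algebra A B] [CommRing A'] [CommRing B'] [Algebra A' B']
variable [CommRing A''] [CommRing B''] [Algebra A'' B'']
variable [Algebra A A'] [Algebra B B'] [Algebra A B'] [IsScalarTower A A' B'] [IsScalarTower A B B']
variable [Algebra A' A''] [Algebra B' B''] [Algebra A' B''] [IsScalarTower A' A'' B''] [IsScalarTower A' B' B'']
variable [Algebra A A''] [Algebra B B''] [Algebra A B''] [IsScalarTower A A'' B''] [IsScalarTower A B B'']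
variable [IsScalarTower A A' A''] [IsScalarTower B B' B''] [IsScalarTower A A' B''] [IsScalarTower A B' B'']
variable {P : Algebra.Presentation A B ι σ} {P' : Algebra.Presentation A' B' ι' σ'}
variable {P'' : Algebra.Presentation A'' B'' ι'' σ''}

omit [IsScalarTower A B' B''] in
theorem ringHom_genComp (g : Algebra.Generators.Hom P.toGenerators P'.toGenerators)
    (g' : Algebra.Generators.Hom P'.toGenerators P''.toGenerators) (x : P.toExtension.Ring) :
    (g'.comp g).toExtensionHom.toRingHom x = g'.toExtensionHom.toRingHom (g.toExtensionHom.toRingHom x) :=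
  Algebra.Generators.Hom.toAlgHom_comp_apply P.toGenerators P'.toGenerators P''.toGenerators g g' x

/-- The composite of two morphisms of presentations. -/
def PresHom.comp (h : PresHom P P') (h' : PresHom P' P'') : PresHom P P'' where
  hom := h'.hom.comp h.hom
  relVal s := h'.relModMap (h.relVal s)
  jmap_relVal s := by
    rw [PresHom.jmap_relModMap, h.jmap_relVal]
    exact (ringHom_genComp h.hom h'.hom _).symm

variable (h : PresHom P P') (h' : PresHom P' P'')

theorem PresHom.comp_ringHom (x : P.toExtension.Ring) :
    (PresHom.comp h h').ringHom x = h'.ringHom (h.ringHom x) := ringHom_genComp h.hom h'.hom x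

theorem PresHom.comp_relModMap (f : relMod P) :
    (PresHom.comp h h').relModMap f = h'.relModMap (h.relModMap f) := by
  induction f using Finsupp.induction_linear with
  | zero => simp
  | add f g hf hg => rw [map_add, map_add, map_add, hf, hg]
  | single s r =>
    rw [PresHom.relModMap_single, PresHom.relModMap_single, LinearMap.map_smulₛₗ, PresHom.comp_ringHom]
    rfl

theorem PresHom.comp_L2map (z : L2 P) : (PresHom.comp h h').L2map z = h'.L2map (h.L2map z) := by
  obtain ⟨q, rfl⟩ := L2mk_surjective P z
  rw [L2mk_apply, PresHom.L2map_mk_tmul, PresHom.L2map_mk_tmul, PresHom.L2map_mk_tmul,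
    map_one, map_one, map_one]
  exact congrArg (fun y => Submodule.Quotient.mk ((1 : B'') ⊗ₜ y)) (Subtype.ext (PresHom.comp_relModMap h h' q))

theorem PresHom.comp_L1map (z : L1 P) : (PresHom.comp h h').L1map z = h'.L1map (h.L1map z) := by
  obtain ⟨f, rfl⟩ := exists_one_tmul P z
  rw [PresHom.L1map_tmul, PresHom.L1map_tmul, PresHom.L1map_tmul, map_one, map_one, map_one,
    PresHom.comp_relModMap]

theorem PresHom.comp_L0map (z : L0 P) : (PresHom.comp h h').L0map z = h'.L0map (h.L0map z) := by
  have key : ∀ i, (PresHom.comp h h').L0map (P.cotangentSpaceBasis i) =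
      h'.L0map (h.L0map (P.cotangentSpaceBasis i)) := by
    intro i
    have e : P.cotangentSpaceBasis i =
        (1 : B) ⊗ₜ KaehlerDifferential.D A P.toExtension.Ring (MvPolynomial.X i) :=
      Algebra.Generators.cotangentSpaceBasis_apply P.toGenerators i
    rw [e, L0map_one_tmul_D, L0map_one_tmul_D, L0map_one_tmul_D, PresHom.comp_ringHom]
  have hz : z ∈ Submodule.span B (Set.range P.cotangentSpaceBasis) := by
    rw [Module.Basis.span_eq]; trivial
  induction hz using Submodule.span_induction with
  | mem x hx =>
    obtain ⟨i, rfl⟩ := hx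
    exact key i
  | zero => simp
  | add x y _ _ hx hy => simp only [map_add, hx, hy]
  | smul r x _ hx =>
    rw [LinearMap.map_smulₛₗ, LinearMap.map_smulₛₗ, LinearMap.map_smulₛₗ, hx,
      IsScalarTower.algebraMap_apply B B' B'']

variable (M : Type m) [AddCommGroup M] [Module B'' M] [Module B' M] [Module B M]
  [IsScalarTower B' B'' M] [IsScalarTower B B'' M] [IsScalarTower B B' M]

theorem T2pull_comp (h'' : PresHom P P'') (x : T2 P'' M) :
    h''.T2pull M x = h.T2pull M (h'.T2pull M x) := by
  rw [T2pull_eq M h'' (PresHom.comp h h')]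
  obtain ⟨ψ, rfl⟩ := Submodule.Quotient.mk_surjective _ x
  rw [T2pull_mk, T2pull_mk, T2pull_mk]
  congr 1
  exact LinearMap.ext fun z => congrArg ψ (PresHom.comp_L2map h h' z)

theorem T1pull_comp (h'' : PresHom P P'') (x : T1 P'' M) :
    h''.T1pull M x = h.T1pull M (h'.T1pull M x) := by
  rw [T1pull_eq M h'' (PresHom.comp h h')]
  obtain ⟨c, rfl⟩ := Submodule.Quotient.mk_surjective _ x
  rw [T1pull_mk, T1pull_mk, T1pull_mk]
  congr 1
  exact Subtype.ext (LinearMap.ext fun z => congrArg (c : L1 P'' →ₗ[B''] M) (PresHom.comp_L1map h h' z))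

theorem T0pull_comp (h'' : PresHom P P'') (x : T0 P'' M) :
    h''.T0pull M x = h.T0pull M (h'.T0pull M x) := by
  rw [T0pull_eq M h'' (PresHom.comp h h')]
  exact Subtype.ext (LinearMap.ext fun z => congrArg (x : L0 P'' →ₗ[B''] M) (PresHom.comp_L0map h h' z))

end Comp

section Self

variable {A : Type u} {B : Type v} {ι : Type w} {σ : Type t}
variable [CommRing A] [CommRing B] [Algebra A B]
variable {P : Algebra.Presentation A B ι σ} (M : Type m) [AddCommGroup M] [Module B M]

theorem id_ringHom (x : P.toExtension.Ring) : (PresHom.id P).ringHom x = x :=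
  DFunLike.congr_fun (Algebra.Generators.Hom.toAlgHom_id P.toGenerators) x

theorem id_relModMap (f : relMod P) : (PresHom.id P).relModMap f = f := by
  induction f using Finsupp.induction_linear with
  | zero => simp
  | add f g hf hg => rw [map_add, hf, hg]
  | single s r =>
    rw [PresHom.relModMap_single, id_ringHom]
    change r • Finsupp.single s 1 = _
    rw [Finsupp.smul_single, smul_eq_mul, mul_one]

theorem T2pull_self (h : PresHom P P) (x : T2 P M) : h.T2pull M x = x := by
  rw [T2pull_eq M h (PresHom.id P)]
  obtain ⟨ψ, rfl⟩ := Submodule.Quotient.mk_surjective _ x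
  rw [T2pull_mk]
  refine congrArg Submodule.Quotient.mk (L2_hom_ext P fun q => ?_)
  rw [PresHom.pull2_apply, L2mk_apply, PresHom.L2map_mk_tmul, map_one]
  exact congrArg (fun y => ψ (Submodule.Quotient.mk ((1 : B) ⊗ₜ y))) (Subtype.ext (id_relModMap _))

theorem T1pull_self (h : PresHom P P) (x : T1 P M) : h.T1pull M x = x := by
  rw [T1pull_eq M h (PresHom.id P)]
  obtain ⟨c, rfl⟩ := Submodule.Quotient.mk_surjective _ x
  rw [T1pull_mk]
  refine congrArg Submodule.Quotient.mk (Subtype.ext (LinearMap.ext fun z => ?_))
  obtain ⟨f, rfl⟩ := exists_one_tmul P z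
  rw [PresHom.cocycles1Pull_coe, PresHom.pull1_apply, PresHom.L1map_tmul, map_one, id_relModMap]

theorem T0pull_self (h : PresHom P P) (x : T0 P M) : h.T0pull M x = x := by
  rw [T0pull_eq M h (PresHom.id P)]
  refine Subtype.ext (LinearMap.ext fun z => ?_)
  rw [T0pull_coe, PresHom.pull0_apply, PresHom.L0map_apply]
  congr 1
  have : (PresHom.id P).hom.toExtensionHom = Algebra.Extension.Hom.id P.toExtension :=
    Algebra.Generators.Hom.toExtensionHom_id P.toGenerators
  rw [this, Algebra.Extension.CotangentSpace.map_id]
  rfl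

variable {ι' : Type w'} {σ' : Type t'} {P' : Algebra.Presentation A B ι' σ'}

theorem T2pull_bijective (h : PresHom P P') : Function.Bijective (h.T2pull M) := by
  obtain ⟨g⟩ := nonempty_presHom P' P
  obtain ⟨e⟩ := nonempty_presHom P P
  obtain ⟨e'⟩ := nonempty_presHom P' P'
  exact ⟨Function.LeftInverse.injective (g := g.T2pull M) fun x => by
      rw [← T2pull_comp g h M e', T2pull_self],
    fun x => ⟨g.T2pull M x, by rw [← T2pull_comp h g M e, T2pull_self]⟩⟩

theorem T1pull_bijective (h : PresHom P P') : Function.Bijective (h.T1pull M) := by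
  obtain ⟨g⟩ := nonempty_presHom P' P
  obtain ⟨e⟩ := nonempty_presHom P P
  obtain ⟨e'⟩ := nonempty_presHom P' P'
  exact ⟨Function.LeftInverse.injective (g := g.T1pull M) fun x => by
      rw [← T1pull_comp g h M e', T1pull_self],
    fun x => ⟨g.T1pull M x, by rw [← T1pull_comp h g M e, T1pull_self]⟩⟩

theorem T0pull_bijective (h : PresHom P P') : Function.Bijective (h.T0pull M) := by
  obtain ⟨g⟩ := nonempty_presHom P' P
  obtain ⟨e⟩ := nonempty_presHom P P
  obtain ⟨e'⟩ := nonempty_presHom P' P'
  exact ⟨Function.LeftInverse.injective (g := g.T0pull M) fun x => by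
      rw [← T0pull_comp g h M e', T0pull_self],
    fun x => ⟨g.T0pull M x, by rw [← T0pull_comp h g M e, T0pull_self]⟩⟩

theorem subsingleton_T2_of_presentation (P : Algebra.Presentation A B ι σ)
    (P' : Algebra.Presentation A B ι' σ') [Subsingleton (T2 P' M)] :
    Subsingleton (T2 P M) := by
  obtain ⟨h⟩ := nonempty_presHom P P'
  exact (T2pull_bijective M h).2.subsingleton

end Self

end Groth.Agent.CotT3
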