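/-
The long exact sequence of a row-exact diagram of three-term cochain complexes, in the form needed for
the functors T⁰, T¹, T²: rows exact, injective on the left, surjective on the right in degrees 0 and 1.
-/
import Mathlib.Algebra.Exact.Basic
import Mathlib.LinearAlgebra.Quotient.Basic
import Mathlib.Tactic.Abel

universe w

namespace Groth.Agent.CotT3.Chase

variable {S : Type*} [CommRing S]
variable {X0 X1 X2 Y0 Y1 Y2 Z0 Z1 Z2 : Type*}
variable [AddCommGroup X0] [AddCommGroup X1] [AddCommGroup X2]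
variable [AddCommGroup Y0] [AddCommGroup Y1] [AddCommGroup Y2]
variable [AddCommGroup Z0] [AddCommGroup Z1] [AddCommGroup Z2]
variable [Module S X0] [Module S X1] [Module S X2] [Module S Y0] [Module S Y1] [Module S Y2]
variable [Module S Z0] [Module S Z1] [Module S Z2]

/-- A function with an additive, scalar-compatible and single-valued graph gives a linear map. -/
theorem exists_linearMap_of_rel {P Q : Type*} [AddCommGroup P] [AddCommGroup Q] [Module S P] [Module S Q]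
    (rel : P → Q → Prop) (htot : ∀ p, ∃ q, rel p q) (huniq : ∀ p q q', rel p q → rel p q' → q = q')
    (hadd : ∀ p p' q q', rel p q → rel p' q' → rel (p + p') (q + q'))
    (hsmul : ∀ (s : S) p q, rel p q → rel (s • p) (s • q)) :
    ∃ φ : P →ₗ[S] Q, ∀ p q, rel p q ↔ φ p = q := by
  choose q hq using htot
  refine ⟨{ toFun := q, map_add' := fun a b => huniq _ _ _ (hq _) (hadd _ _ _ _ (hq a) (hq b)),
            map_smul' := fun s a => huniq _ _ _ (hq _) (hsmul s _ _ (hq a)) }, fun p r => ?_⟩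
  exact ⟨fun h => huniq _ _ _ (hq p) h, fun h => h ▸ hq p⟩

theorem longExact
    (dX0 : X0 →ₗ[S] X1) (dX1 : X1 →ₗ[S] X2) (dY0 : Y0 →ₗ[S] Y1) (dY1 : Y1 →ₗ[S] Y2)
    (dZ0 : Z0 →ₗ[S] Z1) (dZ1 : Z1 →ₗ[S] Z2)
    (hY : ∀ y, dY1 (dY0 y) = 0)
    (f0 : X0 →ₗ[S] Y0) (f1 : X1 →ₗ[S] Y1) (f2 : X2 →ₗ[S] Y2)
    (g0 : Y0 →ₗ[S] Z0) (g1 : Y1 →ₗ[S] Z1) (g2 : Y2 →ₗ[S] Z2)
    (cf0 : ∀ x, dY0 (f0 x) = f1 (dX0 x)) (cf1 : ∀ x, dY1 (f1 x) = f2 (dX1 x))
    (cg0 : ∀ y, dZ0 (g0 y) = g1 (dY0 y)) (cg1 : ∀ y, dZ1 (g1 y) = g2 (dY1 y))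
    (i0 : Function.Injective f0) (i1 : Function.Injective f1) (i2 : Function.Injective f2)
    (e0 : Function.Exact f0 g0) (e1 : Function.Exact f1 g1) (e2 : Function.Exact f2 g2)
    (s0 : Function.Surjective g0) (s1 : Function.Surjective g1)
    (F0 : LinearMap.ker dX0 →ₗ[S] LinearMap.ker dY0) (hF0 : ∀ x, (F0 x : Y0) = f0 x)
    (G0 : LinearMap.ker dY0 →ₗ[S] LinearMap.ker dZ0) (hG0 : ∀ x, (G0 x : Z0) = g0 x)
    (F1 : (LinearMap.ker dX1 ⧸ (LinearMap.range dX0).comap (LinearMap.ker dX1).subtype) →ₗ[S]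
      (LinearMap.ker dY1 ⧸ (LinearMap.range dY0).comap (LinearMap.ker dY1).subtype))
    (hF1 : ∀ x : LinearMap.ker dX1, ∃ y : LinearMap.ker dY1, (y : Y1) = f1 x ∧
      F1 (Submodule.Quotient.mk x) = Submodule.Quotient.mk y)
    (G1 : (LinearMap.ker dY1 ⧸ (LinearMap.range dY0).comap (LinearMap.ker dY1).subtype) →ₗ[S]
      (LinearMap.ker dZ1 ⧸ (LinearMap.range dZ0).comap (LinearMap.ker dZ1).subtype))
    (hG1 : ∀ y : LinearMap.ker dY1, ∃ z : LinearMap.ker dZ1, (z : Z1) = g1 y ∧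
      G1 (Submodule.Quotient.mk y) = Submodule.Quotient.mk z)
    (F2 : (X2 ⧸ LinearMap.range dX1) →ₗ[S] (Y2 ⧸ LinearMap.range dY1))
    (hF2 : ∀ x, F2 (Submodule.Quotient.mk x) = Submodule.Quotient.mk (f2 x))
    (G2 : (Y2 ⧸ LinearMap.range dY1) →ₗ[S] (Z2 ⧸ LinearMap.range dZ1))
    (hG2 : ∀ x, G2 (Submodule.Quotient.mk x) = Submodule.Quotient.mk (g2 x)) :
    Function.Injective F0 ∧ Function.Exact F0 G0 ∧ Function.Exact F1 G1 ∧ Function.Exact F2 G2 ∧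
      ∃ (δ₀ : LinearMap.ker dZ0 →ₗ[S]
          (LinearMap.ker dX1 ⧸ (LinearMap.range dX0).comap (LinearMap.ker dX1).subtype))
        (δ₁ : (LinearMap.ker dZ1 ⧸ (LinearMap.range dZ0).comap (LinearMap.ker dZ1).subtype) →ₗ[S]
          (X2 ⧸ LinearMap.range dX1)),
        Function.Exact G0 δ₀ ∧ Function.Exact δ₀ F1 ∧ Function.Exact G1 δ₁ ∧ Function.Exact δ₁ F2 := by
  have gf0 : ∀ x, g0 (f0 x) = 0 := fun x => e0.apply_apply_eq_zero x
  have gf1 : ∀ x, g1 (f1 x) = 0 := fun x => e1.apply_apply_eq_zero x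
  have gf2 : ∀ x, g2 (f2 x) = 0 := fun x => e2.apply_apply_eq_zero x
  have mk1Z : ∀ z z' : LinearMap.ker dZ1,
      ((Submodule.Quotient.mk z : LinearMap.ker dZ1 ⧸ (LinearMap.range dZ0).comap (LinearMap.ker dZ1).subtype) =
        Submodule.Quotient.mk z') ↔ ∃ w, dZ0 w = (z : Z1) - z' := by
    intro z z'
    rw [Submodule.Quotient.eq]
    simp [Submodule.mem_comap]
  have mk1Y : ∀ z z' : LinearMap.ker dY1,
      ((Submodule.Quotient.mk z : LinearMap.ker dY1 ⧸ (LinearMap.range dY0).comap (LinearMap.ker dY1).subtype) =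
        Submodule.Quotient.mk z') ↔ ∃ w, dY0 w = (z : Y1) - z' := by
    intro z z'
    rw [Submodule.Quotient.eq]
    simp [Submodule.mem_comap]
  have mk1X : ∀ z z' : LinearMap.ker dX1,
      ((Submodule.Quotient.mk z : LinearMap.ker dX1 ⧸ (LinearMap.range dX0).comap (LinearMap.ker dX1).subtype) =
        Submodule.Quotient.mk z') ↔ ∃ w, dX0 w = (z : X1) - z' := by
    intro z z'
    rw [Submodule.Quotient.eq]
    simp [Submodule.mem_comap]
  refine ⟨fun a b h => Subtype.ext (i0 ?_), ?_, ?_, ?_, ?_⟩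
  · rw [← hF0, ← hF0, h]
  · intro y
    constructor
    · intro hy
      obtain ⟨x, hx⟩ := (e0 y).1 (by rw [← hG0, hy]; rfl)
      refine ⟨⟨x, ?_⟩, Subtype.ext (by rw [hF0]; exact hx)⟩
      rw [LinearMap.mem_ker]
      refine i1 ?_
      rw [← cf0, hx, map_zero]
      exact y.2
    · rintro ⟨x, rfl⟩
      exact Subtype.ext (by rw [hG0, hF0, gf0]; rfl)
  · intro c
    obtain ⟨y, rfl⟩ := Submodule.Quotient.mk_surjective _ c
    constructor
    · intro hc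
      obtain ⟨z, hz, hGz⟩ := hG1 y
      rw [hGz] at hc
      obtain ⟨w, hw⟩ := (mk1Z z 0).1 (by rw [hc]; rfl)
      obtain ⟨v, rfl⟩ := s0 w
      obtain ⟨x, hx⟩ := (e1 ((y : Y1) - dY0 v)).1 (by
        rw [map_sub, ← cg0, hw, ← hz]; simp)
      have hxc : x ∈ LinearMap.ker dX1 := by
        rw [LinearMap.mem_ker]
        refine i2 ?_
        rw [← cf1, hx, map_sub, hY, LinearMap.mem_ker.1 y.2, map_zero, sub_zero]
      refine ⟨Submodule.Quotient.mk ⟨x, hxc⟩, ?_⟩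
      obtain ⟨y', hy', hFy'⟩ := hF1 ⟨x, hxc⟩
      rw [hFy']
      refine (mk1Y _ _).2 ⟨-v, ?_⟩
      rw [hy', map_neg]
      change -dY0 v = f1 x - y
      rw [hx]; abel
    · rintro ⟨d, hd⟩
      obtain ⟨x, rfl⟩ := Submodule.Quotient.mk_surjective _ d
      obtain ⟨y', hy', hFy'⟩ := hF1 x
      obtain ⟨z, hz, hGz⟩ := hG1 y'
      rw [← hd, hFy', hGz]
      refine (mk1Z z 0).2 ⟨0, ?_⟩
      rw [map_zero, hz, hy', gf1]; simp
  · intro c
    obtain ⟨y, rfl⟩ := Submodule.Quotient.mk_surjective _ c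
    constructor
    · intro hc
      rw [hG2, Submodule.Quotient.mk_eq_zero] at hc
      obtain ⟨z, hz⟩ := hc
      obtain ⟨v, rfl⟩ := s1 z
      obtain ⟨x, hx⟩ := (e2 (y - dY1 v)).1 (by rw [map_sub, ← cg1, hz, sub_self])
      refine ⟨Submodule.Quotient.mk x, ?_⟩
      rw [hF2, hx, Submodule.Quotient.eq]
      exact ⟨-v, by rw [map_neg]; abel⟩
    · rintro ⟨d, hd⟩
      obtain ⟨x, rfl⟩ := Submodule.Quotient.mk_surjective _ d
      rw [← hd, hF2, hG2, gf2]; rfl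
  -- the connecting maps
  obtain ⟨δ₀, hδ₀⟩ := exists_linearMap_of_rel (S := S)
    (P := LinearMap.ker dZ0)
    (Q := LinearMap.ker dX1 ⧸ (LinearMap.range dX0).comap (LinearMap.ker dX1).subtype)
    (fun z c => ∃ (y : Y0) (x : LinearMap.ker dX1), g0 y = z ∧ f1 x = dY0 y ∧ c = Submodule.Quotient.mk x)
    (fun z => by
      obtain ⟨y, hy⟩ := s0 (z : Z0)
      obtain ⟨x, hx⟩ := (e1 (dY0 y)).1 (by rw [← cg0, hy]; exact z.2)
      refine ⟨_, y, ⟨x, ?_⟩, hy, hx, rfl⟩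
      rw [LinearMap.mem_ker]
      exact i2 (by rw [← cf1, hx, hY, map_zero]))
    (by
      rintro z c c' ⟨y, x, hy, hx, rfl⟩ ⟨y', x', hy', hx', rfl⟩
      obtain ⟨w, hw⟩ := (e0 (y - y')).1 (by rw [map_sub, hy, hy', sub_self])
      refine (mk1X _ _).2 ⟨w, i1 ?_⟩
      rw [← cf0, hw, map_sub, map_sub, hx, hx'])
    (by
      rintro z z' c c' ⟨y, x, hy, hx, rfl⟩ ⟨y', x', hy', hx', rfl⟩
      exact ⟨y + y', x + x', by rw [map_add, hy, hy']; rfl, by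
        rw [Submodule.coe_add, map_add, map_add, hx, hx'], rfl⟩)
    (by
      rintro s z c ⟨y, x, hy, hx, rfl⟩
      exact ⟨s • y, s • x, by rw [map_smul, hy]; rfl, by
        rw [Submodule.coe_smul, map_smul, map_smul, hx], rfl⟩)
  obtain ⟨δ₁, hδ₁⟩ := exists_linearMap_of_rel (S := S)
    (P := LinearMap.ker dZ1 ⧸ (LinearMap.range dZ0).comap (LinearMap.ker dZ1).subtype)
    (Q := X2 ⧸ LinearMap.range dX1)
    (fun p c => ∃ (z : LinearMap.ker dZ1) (y : Y1) (x : X2),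
      p = Submodule.Quotient.mk z ∧ g1 y = z ∧ f2 x = dY1 y ∧ c = Submodule.Quotient.mk x)
    (fun p => by
      obtain ⟨z, rfl⟩ := Submodule.Quotient.mk_surjective _ p
      obtain ⟨y, hy⟩ := s1 (z : Z1)
      obtain ⟨x, hx⟩ := (e2 (dY1 y)).1 (by rw [← cg1, hy]; exact z.2)
      exact ⟨_, z, y, x, rfl, hy, hx, rfl⟩)
    (by
      rintro p c c' ⟨z, y, x, rfl, hy, hx, rfl⟩ ⟨z', y', x', hp, hy', hx', rfl⟩
      obtain ⟨w, hw⟩ := (mk1Z z z').1 hp
      obtain ⟨v, rfl⟩ := s0 w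
      obtain ⟨u, hu⟩ := (e1 (y - y' - dY0 v)).1 (by
        rw [map_sub, map_sub, hy, hy', ← cg0, hw, sub_self])
      rw [Submodule.Quotient.eq]
      refine ⟨u, i2 ?_⟩
      rw [← cf1, hu, map_sub, map_sub, map_sub, hY, hx, hx', sub_zero])
    (by
      rintro p p' c c' ⟨z, y, x, rfl, hy, hx, rfl⟩ ⟨z', y', x', rfl, hy', hx', rfl⟩
      exact ⟨z + z', y + y', x + x', rfl, by rw [map_add, hy, hy']; rfl, by rw [map_add, map_add, hx, hx'], rfl⟩)
    (by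
      rintro s p c ⟨z, y, x, rfl, hy, hx, rfl⟩
      exact ⟨s • z, s • y, s • x, rfl, by rw [map_smul, hy]; rfl, by rw [map_smul, map_smul, hx], rfl⟩)
  refine ⟨δ₀, δ₁, ?_, ?_, ?_, ?_⟩
  · intro z
    constructor
    · intro hz
      obtain ⟨y, x, hy, hx, hc⟩ := (hδ₀ z 0).2 hz
      obtain ⟨w, hw⟩ := (mk1X x 0).1 hc.symm
      refine ⟨⟨y - f0 w, ?_⟩, Subtype.ext ?_⟩
      · rw [LinearMap.mem_ker, map_sub, cf0, hw, ← hx]; simp
      · rw [hG0]; simp [gf0, hy]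
    · rintro ⟨y, rfl⟩
      exact (hδ₀ _ 0).1 ⟨y, 0, (hG0 y).symm, by
        rw [LinearMap.mem_ker.1 y.2]; simp, rfl⟩
  · intro c
    obtain ⟨x, rfl⟩ := Submodule.Quotient.mk_surjective _ c
    constructor
    · intro hc
      obtain ⟨y', hy', hFy'⟩ := hF1 x
      rw [hFy'] at hc
      obtain ⟨w, hw⟩ := (mk1Y y' 0).1 (by rw [hc]; rfl)
      have hwk : g0 w ∈ LinearMap.ker dZ0 := by
        rw [LinearMap.mem_ker, cg0, hw, hy']; simp [gf1]
      exact ⟨⟨g0 w, hwk⟩, (hδ₀ _ _).1 ⟨w, x, rfl, by rw [hw, hy']; simp, rfl⟩⟩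
    · rintro ⟨z, hz⟩
      obtain ⟨y, x', hy, hx', hc⟩ := (hδ₀ z _).2 hz
      rw [hc]
      obtain ⟨y', hy', hFy'⟩ := hF1 x'
      rw [hFy']
      exact (mk1Y y' 0).2 ⟨y, by rw [← hx', hy']; simp⟩
  · intro p
    constructor
    · intro hp
      obtain ⟨z, y, x, rfl, hy, hx, hc⟩ := (hδ₁ p 0).2 hp
      obtain ⟨u, hu⟩ := (Submodule.Quotient.mk_eq_zero _).1 hc.symm
      have hk : y - f1 u ∈ LinearMap.ker dY1 := by
        rw [LinearMap.mem_ker, map_sub, cf1, hu, hx, sub_self]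
      refine ⟨Submodule.Quotient.mk ⟨_, hk⟩, ?_⟩
      obtain ⟨z', hz', hGz'⟩ := hG1 ⟨_, hk⟩
      rw [hGz']
      refine (mk1Z _ _).2 ⟨0, ?_⟩
      rw [map_zero, hz']; simp [gf1, hy]
    · rintro ⟨c, rfl⟩
      obtain ⟨y, rfl⟩ := Submodule.Quotient.mk_surjective _ c
      obtain ⟨z', hz', hGz'⟩ := hG1 y
      rw [hGz']
      exact (hδ₁ _ 0).1 ⟨z', y, 0, rfl, hz'.symm, by
        rw [LinearMap.mem_ker.1 y.2, map_zero], rfl⟩
  · intro c
    obtain ⟨x, rfl⟩ := Submodule.Quotient.mk_surjective _ c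
    constructor
    · intro hc
      rw [hF2, Submodule.Quotient.mk_eq_zero] at hc
      obtain ⟨y, hy⟩ := hc
      have hk : g1 y ∈ LinearMap.ker dZ1 := by rw [LinearMap.mem_ker, cg1, hy, gf2]
      exact ⟨Submodule.Quotient.mk ⟨_, hk⟩, (hδ₁ _ _).1 ⟨⟨_, hk⟩, y, x, rfl, rfl, hy.symm, rfl⟩⟩
    · rintro ⟨p, hp⟩
      obtain ⟨z, y, x', rfl, hy, hx, hc⟩ := (hδ₁ p _).2 hp
      rw [hc, hF2, Submodule.Quotient.mk_eq_zero]
      exact ⟨y, hx.symm⟩

end Groth.Agent.CotT3.Chase
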