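/-
The composite of two presentations and the exactness of the induced sequence of cochain complexes.
-/
import Groth.Agent.Lib.CotT3.Comp

set_option backward.isDefEq.respectTransparency false

universe u v v' w t w' t' m

open TensorProduct

noncomputable section

namespace Groth.Agent.CotT3

open _root_.CotT

variable {A : Type u} {B : Type v} {C : Type v'} {ι : Type w} {σ : Type t} {ι' : Type w'} {σ' : Type t'}
variable [CommRing A] [CommRing B] [CommRing C] [Algebra A B] [Algebra B C] [Algebra A C] [IsScalarTower A B C]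
variable (P : Algebra.Presentation A B ι σ) (Q : Algebra.Presentation B C ι' σ')

/-- The map of presentations `P → Q.comp P`. -/
def toCompHom : PresHom P (Q.comp P) where
  hom := Q.toGenerators.toComp P.toGenerators
  relVal s := Finsupp.single (Sum.inr s) 1
  jmap_relVal s := by
    rw [jmap_single, one_mul]
    exact (DFunLike.congr_fun (Algebra.Generators.toComp_toAlgHom Q.toGenerators P.toGenerators) (P.relation s)).symm

/-- The map of presentations `Q.comp P → Q`. -/
def ofCompHom : PresHom (Q.comp P) Q where
  hom := Q.toGenerators.ofComp P.toGenerators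
  relVal r := Sum.elim (fun r => Finsupp.single r 1) (fun _ => 0) r
  jmap_relVal r := by
    cases r with
    | inl r =>
      rw [Sum.elim_inl, jmap_single, one_mul]
      exact (Q.comp_aeval_relation_inl P r).symm
    | inr r =>
      rw [Sum.elim_inr, map_zero]
      refine ((Algebra.Generators.toAlgHom_ofComp_rename Q.toGenerators P.toGenerators (P.relation r)).trans ?_).symm
      rw [Algebra.Generators.algebraMap_apply, P.aeval_val_relation, map_zero]

theorem ofComp_ringHom_surjective : Function.Surjective (ofCompHom P Q).ringHom :=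
  Algebra.Generators.toAlgHom_ofComp_surjective Q.toGenerators P.toGenerators

theorem toComp_ringHom_apply (x : P.toExtension.Ring) :
    (toCompHom P Q).ringHom x = MvPolynomial.rename Sum.inr x :=
  DFunLike.congr_fun (Algebra.Generators.toComp_toAlgHom Q.toGenerators P.toGenerators) x

/-- The identification `A[Y ⊕ X] ≅ (A[X])[Y]`. -/
def split : (Q.comp P).toExtension.Ring ≃+* MvPolynomial ι' P.toExtension.Ring :=
  (MvPolynomial.sumAlgEquiv A ι' ι).toRingEquiv

theorem split_toComp (x : P.toExtension.Ring) : split P Q ((toCompHom P Q).ringHom x) = MvPolynomial.C x := by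
  rw [toComp_ringHom_apply]
  exact DFunLike.congr_fun (MvPolynomial.sumAlgEquiv_comp_rename_inr (R := A) (S₁ := ι') (S₂ := ι)) x

theorem ofComp_eq_map_split (x : (Q.comp P).toExtension.Ring) :
    (ofCompHom P Q).ringHom x = MvPolynomial.map (MvPolynomial.aeval P.val).toRingHom (split P Q x) := by
  have : (Q.toGenerators.ofComp P.toGenerators).toAlgHom =
      (MvPolynomial.mapAlgHom (MvPolynomial.aeval P.val)).comp (MvPolynomial.sumAlgEquiv A ι' ι).toAlgHom := by
    refine MvPolynomial.algHom_ext fun i => ?_
    cases i <;> simp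
  exact DFunLike.congr_fun this x

/-- The kernel of `A[Y ⊕ X] → B[Y]` is generated by the relations of `P`. -/
theorem ker_ofComp : RingHom.ker (ofCompHom P Q).ringHom = P.ker.map (toCompHom P Q).ringHom := by
  refine le_antisymm (fun x hx => ?_) (Ideal.map_le_iff_le_comap.2 fun (x : P.toExtension.Ring) hx => ?_)
  · have h1 : split P Q x ∈ RingHom.ker (MvPolynomial.map (σ := ι') (MvPolynomial.aeval P.val).toRingHom) :=
      (ofComp_eq_map_split P Q x).symm.trans hx
    rw [MvPolynomial.ker_map] at h1
    have h2 : RingHom.ker (MvPolynomial.aeval P.val).toRingHom = P.ker :=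
      (P.toGenerators.ker_eq_ker_aeval_val).symm
    rw [h2] at h1
    have h3 := Ideal.mem_map_of_mem (split P Q).symm.toRingHom h1
    rw [Ideal.map_map] at h3
    have h4 : (split P Q).symm.toRingHom.comp MvPolynomial.C = (toCompHom P Q).ringHom :=
      RingHom.ext fun y => (RingEquiv.symm_apply_eq _).2 (split_toComp P Q y).symm
    rw [h4] at h3
    rwa [show (split P Q).symm.toRingHom (split P Q x) = x from (split P Q).symm_apply_apply x] at h3
  · rw [Ideal.mem_comap, RingHom.mem_ker, ofComp_eq_map_split]
    refine ((congrArg _ (split_toComp P Q x)).trans (MvPolynomial.map_C _ _)).trans ?_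
    exact (congrArg MvPolynomial.C (P.toGenerators.ker_eq_ker_aeval_val.le hx : (MvPolynomial.aeval P.val) x = 0)).trans
      (map_zero _)

/-- The elements supported on the relations of `P`. -/
abbrev inrPart : Submodule (Q.comp P).toExtension.Ring (relMod (Q.comp P)) :=
  Finsupp.supported (Q.comp P).toExtension.Ring (Q.comp P).toExtension.Ring (Set.range (Sum.inr : σ → σ' ⊕ σ))

/-- Elements congruent, modulo trivial relations, to one supported on the relations of `P`. -/
def reducible : Submodule (Q.comp P).toExtension.Ring (relMod (Q.comp P)) :=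
  trivRel (Q.comp P) ⊔ inrPart P Q

theorem ofComp_relModMap_surjective : Function.Surjective (ofCompHom P Q).relModMap := by
  intro g
  induction g using Finsupp.induction_linear with
  | zero => exact ⟨0, map_zero _⟩
  | add f g hf hg =>
    obtain ⟨f', rfl⟩ := hf
    obtain ⟨g', rfl⟩ := hg
    exact ⟨f' + g', map_add _ _ _⟩
  | single s r =>
    obtain ⟨r', rfl⟩ := ofComp_ringHom_surjective P Q r
    refine ⟨Finsupp.single (Sum.inl s) r', ?_⟩
    rw [PresHom.relModMap_single]
    change _ • Finsupp.single s 1 = _
    rw [Finsupp.smul_single, smul_eq_mul, mul_one]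

theorem mem_range_toComp_of_ker {x : (Q.comp P).toExtension.Ring} (hx : (ofCompHom P Q).ringHom x = 0) :
    ∃ b ∈ inrPart P Q, jmap (Q.comp P) b = x := by
  have hx' : x ∈ P.ker.map (toCompHom P Q).ringHom := ker_ofComp P Q ▸ hx
  have hle : P.ker.map (toCompHom P Q).ringHom ≤
      (inrPart P Q).map (jmap (Q.comp P)) := by
    rw [Ideal.map_le_iff_le_comap]
    rw [show (P.ker : Ideal P.toExtension.Ring) = LinearMap.range (jmap P) from (range_jmap P).symm]
    rintro _ ⟨f, rfl⟩
    refine ⟨(toCompHom P Q).relModMap f, ?_, PresHom.jmap_relModMap _ f⟩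
    induction f using Finsupp.induction_linear with
    | zero => rw [map_zero]; exact Submodule.zero_mem _
    | add f g hf hg => rw [map_add]; exact Submodule.add_mem _ hf hg
    | single s r =>
      rw [PresHom.relModMap_single]
      exact Submodule.smul_mem _ _ (Finsupp.single_mem_supported _ _ ⟨s, rfl⟩)
  exact hle hx'

theorem smul_mem_reducible {x : (Q.comp P).toExtension.Ring} (hx : (ofCompHom P Q).ringHom x = 0)
    (h : relMod (Q.comp P)) : x • h ∈ reducible P Q := by
  obtain ⟨b, hb, rfl⟩ := mem_range_toComp_of_ker P Q hx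
  have : jmap (Q.comp P) b • h =
      (jmap (Q.comp P) b • h - jmap (Q.comp P) h • b) + jmap (Q.comp P) h • b := by abel
  rw [this]
  exact Submodule.add_mem_sup (Submodule.subset_span ⟨b, h, rfl⟩) (Submodule.smul_mem _ _ hb)

theorem mem_reducible_of_relModMap_eq_zero {q : relMod (Q.comp P)}
    (hq : (ofCompHom P Q).relModMap q = 0) : q ∈ reducible P Q := by
  have hcoef : ∀ f : relMod (Q.comp P), ∀ r : σ',
      (ofCompHom P Q).relModMap f r = (ofCompHom P Q).ringHom (f (Sum.inl r)) := by
    intro f r
    induction f using Finsupp.induction_linear with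
    | zero => simp
    | add f g hf hg => simp only [map_add, Finsupp.add_apply, hf, hg]
    | single s x =>
      rw [PresHom.relModMap_single]
      cases s with
      | inl s =>
        change ((ofCompHom P Q).ringHom x • Finsupp.single s 1 : relMod Q) r = _
        classical
        simp only [Finsupp.smul_single, smul_eq_mul, mul_one, Finsupp.single_apply, Sum.inl.injEq]
        split <;> simp
      | inr s =>
        change ((ofCompHom P Q).ringHom x • (0 : relMod Q)) r = _
        simp
  have : q = q.sum (fun s x => x • Finsupp.single s 1) := by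
    simp [Finsupp.smul_single]
  rw [this]
  refine Submodule.sum_mem _ fun s _ => ?_
  cases s with
  | inl r => exact smul_mem_reducible P Q (by rw [← hcoef, hq]; rfl) _
  | inr r => exact Submodule.mem_sup_right (Submodule.smul_mem _ _ (Finsupp.single_mem_supported _ _ ⟨r, rfl⟩))

theorem trivRel_lift {y : relMod Q} (hy : y ∈ trivRel Q) :
    ∃ x ∈ trivRel (Q.comp P), (ofCompHom P Q).relModMap x = y := by
  induction hy using Submodule.span_induction with
  | mem z hz =>
    obtain ⟨a, b, rfl⟩ := hz
    obtain ⟨a, rfl⟩ := ofComp_relModMap_surjective P Q a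
    obtain ⟨b, rfl⟩ := ofComp_relModMap_surjective P Q b
    refine ⟨_, Submodule.subset_span ⟨a, b, rfl⟩, ?_⟩
    rw [map_sub, LinearMap.map_smulₛₗ, LinearMap.map_smulₛₗ, PresHom.jmap_relModMap, PresHom.jmap_relModMap]
  | zero => exact ⟨0, Submodule.zero_mem _, map_zero _⟩
  | add a b _ _ ha hb =>
    obtain ⟨x, hx, rfl⟩ := ha
    obtain ⟨x', hx', rfl⟩ := hb
    exact ⟨x + x', Submodule.add_mem _ hx hx', map_add _ _ _⟩
  | smul r a _ ha =>
    obtain ⟨x, hx, rfl⟩ := ha
    obtain ⟨r, rfl⟩ := ofComp_ringHom_surjective P Q r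
    exact ⟨r • x, Submodule.smul_mem _ _ hx, LinearMap.map_smulₛₗ _ _ _⟩

/-- A relation supported on the relations of `P` comes from relations of `P`. -/
theorem mem_span_of_supported {q : relMod (Q.comp P)} (hq : q ∈ inrPart P Q)
    (hq0 : jmap (Q.comp P) q = 0) :
    q ∈ Submodule.span (Q.comp P).toExtension.Ring
      (Set.range fun p : relKer P => (toCompHom P Q).relModMap p) := by
  classical
  let a : σ →₀ MvPolynomial ι' P.toExtension.Ring :=
    (q.comapDomain Sum.inr Sum.inr_injective.injOn).mapRange (split P Q) (map_zero _)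
  have ha : ∀ s, a s = split P Q (q (Sum.inr s)) := fun s => rfl
  have hq' : q = a.sum (fun s x => Finsupp.single (Sum.inr s) ((split P Q).symm x)) := by
    ext r
    rw [Finsupp.sum_apply]
    cases r with
    | inl r =>
      have : q (Sum.inl r) = 0 := by
        by_contra h
        obtain ⟨s, hs⟩ := (Finsupp.mem_supported _ _).1 hq (Finsupp.mem_support_iff.2 h)
        exact Sum.inr_ne_inl hs
      rw [this]
      exact (Finset.sum_eq_zero fun s _ => by simp).symm
    | inr r =>
      rw [Finsupp.sum_eq_single r (fun s _ hs => by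
        rw [Finsupp.single_eq_of_ne]; simpa using hs.symm) (fun _ => by simp)]
      simp [ha]
  have hrel : a.sum (fun s x => x * MvPolynomial.C (rel P s)) = 0 := by
    have h1 := congrArg (split P Q) hq0
    rw [hq', map_finsuppSum, map_finsuppSum, map_zero] at h1
    rw [← h1]
    refine Finsupp.sum_congr fun s _ => ?_
    rw [jmap_single, map_mul, RingEquiv.apply_symm_apply]
    congr 1
    rw [← split_toComp P Q, ← (toCompHom P Q).jmap_relVal]
    change split P Q (jmap (Q.comp P) (Finsupp.single (Sum.inr s) 1)) = _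
    rw [jmap_single, one_mul]
  let qm : (ι' →₀ ℕ) → relMod P := fun m => a.mapRange (MvPolynomial.coeff m) (MvPolynomial.coeff_zero m)
  have hqm : ∀ m, qm m ∈ relKer P := fun m => by
    change jmap P (qm m) = 0
    rw [jmap, Finsupp.linearCombination_apply, Finsupp.sum_mapRange_index (by simp)]
    have := congrArg (MvPolynomial.coeff m) hrel
    rw [MvPolynomial.coeff_zero] at this
    rw [← this, Finsupp.sum, Finsupp.sum, MvPolynomial.coeff_sum]
    exact Finset.sum_congr rfl fun s _ => by rw [mul_comm, MvPolynomial.coeff_C_mul, smul_eq_mul, mul_comm]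
  let T : Finset (ι' →₀ ℕ) := a.support.biUnion fun s => (a s).support
  have hsum : q = ∑ m ∈ T, (split P Q).symm (MvPolynomial.monomial m 1) • (toCompHom P Q).relModMap (qm m) := by
    have e : ∀ m, (toCompHom P Q).relModMap (qm m) =
        (qm m).sum fun s x => Finsupp.single (Sum.inr s) ((toCompHom P Q).ringHom x) := by
      intro m
      induction qm m using Finsupp.induction_linear with
      | zero => simp
      | add f g hf hg => rw [map_add, hf, hg, Finsupp.sum_add_index' (by simp) (by simp)]
      | single s r =>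
        rw [PresHom.relModMap_single, Finsupp.sum_single_index (by simp)]
        change _ • Finsupp.single (Sum.inr s) 1 = _
        rw [Finsupp.smul_single, smul_eq_mul, mul_one]
    conv_lhs => rw [hq']
    simp only [e, Finsupp.sum, Finset.smul_sum, Finsupp.smul_single, smul_eq_mul]
    rw [Finset.sum_congr rfl fun m _ => Finset.sum_subset (Finsupp.support_mapRange (f := MvPolynomial.coeff m))
      (fun s _ hs => by rw [Finsupp.notMem_support_iff.1 hs]; simp), Finset.sum_comm]
    refine Finset.sum_congr rfl fun s hs => ?_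
    rw [← Finsupp.single_finsetSum]
    congr 1
    apply (split P Q).injective
    rw [RingEquiv.apply_symm_apply, map_sum]
    conv_lhs => rw [MvPolynomial.as_sum (a s)]
    refine Finset.sum_subset_zero_on_sdiff (fun m hm => Finset.mem_biUnion.2 ⟨s, hs, hm⟩)
      (fun m hm => ?_) (fun m _ => ?_)
    · rw [Finset.mem_sdiff, MvPolynomial.notMem_support_iff] at hm
      simp [qm, hm.2]
    · rw [map_mul, RingEquiv.apply_symm_apply, split_toComp, mul_comm, MvPolynomial.C_mul_monomial, mul_one]
      rfl
  rw [hsum]
  exact Submodule.sum_mem _ fun m _ =>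
    Submodule.smul_mem _ _ (Submodule.subset_span ⟨⟨qm m, hqm m⟩, rfl⟩)

theorem ofComp_L2map_surjective : Function.Surjective (ofCompHom P Q).L2map := by
  intro z
  obtain ⟨g, rfl⟩ := L2mk_surjective Q z
  obtain ⟨f, hf⟩ := ofComp_relModMap_surjective P Q (g : relMod Q)
  obtain ⟨b, hb, hb'⟩ := mem_range_toComp_of_ker P Q (x := jmap (Q.comp P) f) (by
    rw [← PresHom.jmap_relModMap, hf]; exact g.2)
  have hb0 : (ofCompHom P Q).relModMap b = 0 := by
    clear hb'
    rw [inrPart, Finsupp.supported_eq_span_single] at hb
    induction hb using Submodule.span_induction with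
    | mem x hx =>
      obtain ⟨_, ⟨s, rfl⟩, rfl⟩ := hx
      rw [PresHom.relModMap_single]
      exact smul_zero _
    | zero => exact map_zero _
    | add x y _ _ hx hy => rw [map_add, hx, hy, add_zero]
    | smul r x _ hx => rw [LinearMap.map_smulₛₗ, hx, smul_zero]
  refine ⟨L2mk (Q.comp P) ⟨f - b, ?_⟩, ?_⟩
  · change jmap (Q.comp P) _ = 0
    rw [map_sub, hb', sub_self]
  · rw [L2mk_apply, PresHom.L2map_mk_tmul, map_one, ← L2mk_apply]
    refine congrArg (L2mk Q) (Subtype.ext ?_)
    rw [PresHom.relKerMap_coe, map_sub, hb0, sub_zero, hf]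

theorem L2map_ker_le {z : L2 (Q.comp P)} (hz : (ofCompHom P Q).L2map z = 0) :
    z ∈ Submodule.span C (Set.range (toCompHom P Q).L2map) := by
  obtain ⟨q, rfl⟩ := L2mk_surjective (Q.comp P) z
  rw [L2mk_apply, PresHom.L2map_mk_tmul, map_one, ← L2mk_apply, L2mk_eq_zero_iff, PresHom.relKerMap_coe] at hz
  obtain ⟨x, hx, hx'⟩ := trivRel_lift P Q hz
  obtain ⟨y, hy, w, hw, hyw⟩ := Submodule.mem_sup.1 (mem_reducible_of_relModMap_eq_zero P Q
    (q := (q : relMod (Q.comp P)) - x) (by rw [map_sub, hx', sub_self]))
  have hwk : w ∈ relKer (Q.comp P) := by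
    have : w = (q : relMod (Q.comp P)) - x - y := eq_sub_of_add_eq' hyw
    rw [this]
    exact Submodule.sub_mem _ (Submodule.sub_mem _ q.2 (trivRel_le_relKer _ hx)) (trivRel_le_relKer _ hy)
  have hqw : L2mk (Q.comp P) q = L2mk (Q.comp P) ⟨w, hwk⟩ := by
    rw [L2mk_eq_iff]
    have : (q : relMod (Q.comp P)) - w = x + y := by
      rw [eq_sub_of_add_eq' hyw]; abel
    exact this ▸ Submodule.add_mem _ hx hy
  rw [hqw]
  obtain ⟨c, hc⟩ := Finsupp.mem_span_range_iff_exists_finsupp.1
    (mem_span_of_supported P Q hw (LinearMap.mem_ker.1 hwk))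
  have : (⟨w, hwk⟩ : relKer (Q.comp P)) = c.sum fun p r => r • (toCompHom P Q).relKerMap p := by
    apply Subtype.ext
    rw [← Submodule.subtype_apply, ← Submodule.subtype_apply, map_finsuppSum]
    exact hc.symm
  rw [this, map_finsuppSum]
  refine Submodule.sum_mem _ fun p _ => ?_
  beta_reduce
  rw [map_smul, ← algebraMap_smul C]
  refine Submodule.smul_mem _ _ (Submodule.subset_span ⟨L2mk P p, ?_⟩)
  rw [L2mk_apply, PresHom.L2map_mk_tmul, map_one]
  rfl

theorem ofComp_toComp_L2map (z : L2 P) : (ofCompHom P Q).L2map ((toCompHom P Q).L2map z) = 0 := by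
  obtain ⟨q, rfl⟩ := L2mk_surjective P z
  rw [L2mk_apply, PresHom.L2map_mk_tmul, map_one, PresHom.L2map_mk_tmul, map_one, ← L2mk_apply]
  have : (ofCompHom P Q).relKerMap ((toCompHom P Q).relKerMap q) = 0 := by
    apply Subtype.ext
    rw [PresHom.relKerMap_coe, PresHom.relKerMap_coe]
    induction (q : relMod P) using Finsupp.induction_linear with
    | zero => simp
    | add f g hf hg => rw [map_add, map_add]; simp only [hf, hg, ZeroMemClass.coe_zero, add_zero]
    | single s r =>
      rw [PresHom.relModMap_single, LinearMap.map_smulₛₗ]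
      change _ • (ofCompHom P Q).relModMap (Finsupp.single (Sum.inr s) 1) = _
      rw [PresHom.relModMap_single]
      exact (smul_eq_zero_of_right _ (smul_zero _))
  rw [this, map_zero]

theorem L1map_toComp_basis (s : σ) :
    (toCompHom P Q).L1map (L1basis P s) = L1basis (Q.comp P) (Sum.inr s) := by
  rw [L1basis_apply, L1basis_apply, PresHom.L1map_tmul, map_one, PresHom.relModMap_single, map_one, one_smul]
  rfl

theorem L1map_ofComp_inl (s : σ') :
    (ofCompHom P Q).L1map (L1basis (Q.comp P) (Sum.inl s)) = L1basis Q s := by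
  rw [L1basis_apply, L1basis_apply, PresHom.L1map_tmul, map_one, PresHom.relModMap_single, map_one, one_smul]
  rfl

theorem L1map_ofComp_inr (s : σ) :
    (ofCompHom P Q).L1map (L1basis (Q.comp P) (Sum.inr s)) = 0 := by
  rw [L1basis_apply, PresHom.L1map_tmul, map_one, PresHom.relModMap_single, map_one, one_smul]
  exact TensorProduct.tmul_zero _ _

theorem basis_eq {A' : Type u} {B' : Type v} {ι₀ : Type w} {σ₀ : Type t} [CommRing A'] [CommRing B'] [Algebra A' B']
    (W : Algebra.Presentation A' B' ι₀ σ₀) (i : ι₀) :
    W.cotangentSpaceBasis i = (1 : B') ⊗ₜ KaehlerDifferential.D A' W.toExtension.Ring (MvPolynomial.X i) :=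
  Algebra.Generators.cotangentSpaceBasis_apply W.toGenerators i

end Groth.Agent.CotT3
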