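/-
Classes of extensions and T¹.
-/
import Groth.Agent.Lib.CotT3.Indep
import Groth.Agent.Lib.Exal.Basic
import Groth.Prelude.Def_Exal

set_option backward.isDefEq.respectTransparency false
set_option linter.style.haveILetI false

universe u v w t

open TensorProduct

noncomputable section

namespace Groth.Agent.CotT3

open _root_.CotT

variable {A : Type u} {B L : Type v} {ι : Type w} {σ : Type t}
variable [CommRing A] [CommRing B] [Algebra A B] [AddCommGroup L] [Module B L]
variable (P : Algebra.Presentation A B ι σ)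

/-- `h` lifts the presentation to the extension `X` and induces `φ` on `I/I²`. -/
def IsClassifier (X : Exal.Ext A B L) (h : P.toExtension.Ring →+* X.E) (φ : P.toExtension.Cotangent →ₗ[B] L) : Prop :=
  (∀ a, h (MvPolynomial.C a) = algebraMap A X.E a) ∧
    (∀ r, X.proj (h r) = algebraMap P.toExtension.Ring B r) ∧
    ∀ x : P.toExtension.ker, h x = X.incl (φ (Algebra.Extension.Cotangent.mk x))

theorem incl_smul (X : Exal.Ext A B L) (x : X.E) (z : L) : X.incl (X.proj x • z) = x * X.incl z :=
  (X.isExtension.mul_incl x z).symm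

theorem exists_isClassifier (X : Exal.Ext A B L) : ∃ h φ, IsClassifier P X h φ := by
  choose e he using fun i => X.isExtension.proj_surjective (P.val i)
  let h : P.toExtension.Ring →+* X.E := MvPolynomial.eval₂Hom (algebraMap A X.E) e
  have hC : ∀ a, h (MvPolynomial.C a) = algebraMap A X.E a := fun a => MvPolynomial.eval₂Hom_C _ _ a
  have hp : ∀ r, X.proj (h r) = algebraMap P.toExtension.Ring B r := by
    intro r
    rw [algebraMap_toExtension]
    suffices X.proj.toRingHom.comp h = (MvPolynomial.aeval P.val).toRingHom from RingHom.congr_fun this r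
    refine MvPolynomial.ringHom_ext (fun a => ?_) (fun i => ?_)
    · exact ((congrArg X.proj (hC a)).trans (X.proj.commutes a)).trans (MvPolynomial.aeval_C _ a).symm
    · exact ((congrArg X.proj (MvPolynomial.eval₂Hom_X' _ _ i)).trans (he i)).trans
        (MvPolynomial.aeval_X _ i).symm
  have hI : ∀ x : P.toExtension.ker, X.proj (h x) = 0 := fun x => (hp x).trans x.2
  let g : P.toExtension.ker → L := fun x => X.kerLift _ (hI x)
  have hg : ∀ x, X.incl (g x) = h x := fun x => X.incl_kerLift _ _
  letI : Module P.toExtension.Ring L := Module.compHom L (algebraMap P.toExtension.Ring B)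
  let gl : P.toExtension.ker →ₗ[P.toExtension.Ring] L :=
    { toFun := g
      map_add' := fun x y => X.isExtension.incl_injective (by
        rw [map_add, hg, hg, hg, Submodule.coe_add, map_add])
      map_smul' := fun r x => X.isExtension.incl_injective (by
        change X.incl (g (r • x)) = X.incl (algebraMap P.toExtension.Ring B r • g x)
        rw [← hp, incl_smul, hg, hg, Submodule.coe_smul, smul_eq_mul, map_mul]) }
  have hker : P.toExtension.ker • (⊤ : Submodule P.toExtension.Ring P.toExtension.ker) ≤ LinearMap.ker gl := by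
    refine Submodule.smul_le.2 fun r hr x _ => ?_
    rw [LinearMap.mem_ker, map_smul]
    change algebraMap P.toExtension.Ring B r • gl x = 0
    rw [RingHom.mem_ker.1 hr, zero_smul]
  rw [← Algebra.Extension.Cotangent.ker_mk] at hker
  let φ₀ : P.toExtension.Cotangent → L := fun c => gl (Function.surjInv Algebra.Extension.Cotangent.mk_surjective c)
  have hwd : ∀ x, φ₀ (Algebra.Extension.Cotangent.mk x) = gl x := fun x => by
    rw [← sub_eq_zero, ← map_sub, ← LinearMap.mem_ker]
    exact hker (by rw [LinearMap.mem_ker, map_sub, Function.surjInv_eq Algebra.Extension.Cotangent.mk_surjective, sub_self])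
  refine ⟨h, { toFun := φ₀, map_add' := fun c d => ?_, map_smul' := fun b c => ?_ }, hC, hp, fun x => ?_⟩
  · obtain ⟨x, rfl⟩ := Algebra.Extension.Cotangent.mk_surjective c
    obtain ⟨y, rfl⟩ := Algebra.Extension.Cotangent.mk_surjective d
    rw [← map_add, hwd, hwd, hwd, map_add]
  · obtain ⟨x, rfl⟩ := Algebra.Extension.Cotangent.mk_surjective c
    obtain ⟨r, rfl⟩ := algebraMap_surjective P b
    rw [algebraMap_smul, ← map_smul, hwd, hwd, map_smul]
    rfl
  · exact ((congrArg X.incl (hwd x)).trans (hg x)).symm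

theorem exists_isClassifier_add {X : Exal.Ext A B L} {h : P.toExtension.Ring →+* X.E}
    {φ : P.toExtension.Cotangent →ₗ[B] L} (hh : IsClassifier P X h φ) (ψ : L0 P →ₗ[B] L) :
    ∃ h' : P.toExtension.Ring →+* X.E, IsClassifier P X h' (φ + ψ ∘ₗ P.toExtension.cotangentComplex) ∧
      ∀ r, h' r = h r + X.incl (ψ (1 ⊗ₜ KaehlerDifferential.D A P.toExtension.Ring r)) := by
  obtain ⟨hC, hp, hI⟩ := hh
  let D : P.toExtension.Ring → X.E := fun r => X.incl (ψ (1 ⊗ₜ KaehlerDifferential.D A P.toExtension.Ring r))
  have hmul : ∀ r s, D (r * s) = h r * D s + h s * D r := fun r s => by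
    simp only [D]
    rw [Derivation.leibniz, tmul_add, one_tmul_smul, one_tmul_smul, map_add, map_smul, map_smul, map_add,
      ← hp r, ← hp s, incl_smul, incl_smul]
  have hDD : ∀ r s, D r * D s = 0 := fun r s => Exal3L.incl_mul_incl X _ _
  have hD0 : ∀ a : A, D (MvPolynomial.C a) = 0 := fun a => by
    simp only [D]
    rw [show KaehlerDifferential.D A P.toExtension.Ring (MvPolynomial.C a) = 0 from
      (KaehlerDifferential.D A P.toExtension.Ring).map_algebraMap a, tmul_zero, map_zero, map_zero]
  let h' : P.toExtension.Ring →+* X.E :=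
    { toFun := fun r => h r + D r
      map_one' := by
        have : D (1 : P.toExtension.Ring) = 0 := by simp [D]
        rw [this, map_one, add_zero]
      map_mul' := fun r s => by
        rw [map_mul, hmul]
        linear_combination -(hDD r s)
      map_zero' := by simp [D]
      map_add' := fun r s => by
        simp only [D, map_add, tmul_add]; abel }
  refine ⟨h', ⟨fun a => ?_, fun r => ?_, fun x => ?_⟩, fun r => rfl⟩
  · change h _ + D _ = _
    rw [hD0, add_zero, hC]
  · change X.proj (h r + D r) = _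
    rw [map_add, hp, Exal3L.proj_incl, add_zero]
  · change h x + D x = _
    rw [LinearMap.add_apply, map_add, hI, LinearMap.comp_apply, Algebra.Extension.cotangentComplex_mk]

theorem homToT1_eq_iff (φ φ' : P.toExtension.Cotangent →ₗ[B] L) :
    homToT1 P L φ = homToT1 P L φ' ↔ ∃ ψ : L0 P →ₗ[B] L, φ' = φ + ψ ∘ₗ P.toExtension.cotangentComplex := by
  rw [← sub_eq_zero, ← map_sub, ← LinearMap.mem_ker, ker_homToT1]
  constructor
  · rintro ⟨ψ, hψ⟩
    refine ⟨-ψ, LinearMap.ext fun c => ?_⟩
    have := LinearMap.congr_fun hψ c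
    simp only [LinearMap.lcomp_apply, LinearMap.sub_apply] at this
    simp only [LinearMap.add_apply, LinearMap.comp_apply, LinearMap.neg_apply, this]
    abel
  · rintro ⟨ψ, rfl⟩
    exact ⟨-ψ, LinearMap.ext fun c => by simp⟩

theorem homToT1_eq_of_isClassifier {X : Exal.Ext A B L} {h h' : P.toExtension.Ring →+* X.E}
    {φ φ' : P.toExtension.Cotangent →ₗ[B] L} (hh : IsClassifier P X h φ) (hh' : IsClassifier P X h' φ') :
    homToT1 P L φ = homToT1 P L φ' := by
  let d : ι → L := fun i => X.kerLift (h' (MvPolynomial.X i) - h (MvPolynomial.X i)) (by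
    rw [map_sub, hh'.2.1, hh.2.1, sub_self])
  let ψ : L0 P →ₗ[B] L := P.cotangentSpaceBasis.constr B d
  obtain ⟨h'', hh'', hform⟩ := exists_isClassifier_add P hh ψ
  have : h'' = h' := by
    refine MvPolynomial.ringHom_ext (fun a => ?_) (fun i => ?_)
    · exact (hh''.1 a).trans (hh'.1 a).symm
    · refine (hform _).trans ?_
      have e : ψ (1 ⊗ₜ KaehlerDifferential.D A P.toExtension.Ring (MvPolynomial.X i)) = d i := by
        have : P.cotangentSpaceBasis i =
            (1 : B) ⊗ₜ KaehlerDifferential.D A P.toExtension.Ring (MvPolynomial.X i) :=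
          Algebra.Generators.cotangentSpaceBasis_apply P.toGenerators i
        rw [← this, Module.Basis.constr_basis]
      rw [e, X.incl_kerLift]
      exact add_sub_cancel _ _
  subst this
  refine (homToT1_eq_iff P _ _).2 ⟨ψ, LinearMap.ext fun c => X.isExtension.incl_injective ?_⟩
  obtain ⟨x, rfl⟩ := Algebra.Extension.Cotangent.mk_surjective c
  rw [← hh'.2.2 x, ← hh''.2.2 x]

theorem isClassifier_of_equiv {X Y : Exal.Ext A B L} (e : X.Equiv Y) {h : P.toExtension.Ring →+* X.E}
    {φ : P.toExtension.Cotangent →ₗ[B] L} (hh : IsClassifier P X h φ) :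
    IsClassifier P Y ((e.toAlgEquiv : X.E →+* Y.E).comp h) φ :=
  ⟨fun a => by
      change e.toAlgEquiv (h _) = _
      rw [hh.1]; exact e.toAlgEquiv.commutes a,
    fun r => (e.proj_apply _).trans (hh.2.1 r),
    fun x => by
      change e.toAlgEquiv (h _) = _
      rw [hh.2.2, e.apply_incl]⟩

theorem nonempty_equiv_of_classifier {X Y : Exal.Ext A B L} {h : P.toExtension.Ring →+* X.E}
    {h' : P.toExtension.Ring →+* Y.E} {φ : P.toExtension.Cotangent →ₗ[B] L}
    (hh : IsClassifier P X h φ) (hh' : IsClassifier P Y h' φ) : Nonempty (X.Equiv Y) := by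
  have hdec : ∀ x : X.E, ∃ r z, h r + X.incl z = x := fun x => by
    obtain ⟨r, hr⟩ := algebraMap_surjective P (X.proj x)
    obtain ⟨z, hz⟩ := (X.isExtension.exact (x - h r)).1 (by rw [map_sub, hh.2.1, hr, sub_self])
    exact ⟨r, z, by rw [hz, add_sub_cancel]⟩
  have hwd : ∀ r z r' z', h r + X.incl z = h r' + X.incl z' → h' r + Y.incl z = h' r' + Y.incl z' := by
    intro r z r' z' e
    have hk : r - r' ∈ P.toExtension.ker := by
      have := congrArg X.proj e
      rw [map_add, map_add, hh.2.1, hh.2.1, Exal3L.proj_incl, Exal3L.proj_incl, add_zero, add_zero] at this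
      rw [RingHom.mem_ker, map_sub, this, sub_self]
    have h1 : h r - h r' = X.incl (z' - z) := by rw [map_sub]; linear_combination e
    rw [← map_sub, hh.2.2 ⟨_, hk⟩] at h1
    have h2 : h' r - h' r' = Y.incl (φ (Algebra.Extension.Cotangent.mk ⟨_, hk⟩)) := by
      rw [← map_sub]; exact hh'.2.2 ⟨_, hk⟩
    rw [X.isExtension.incl_injective h1, map_sub] at h2
    linear_combination h2
  choose r z hrz using hdec
  let f : X.E → Y.E := fun x => h' (r x) + Y.incl (z x)
  have hf : ∀ r' z', f (h r' + X.incl z') = h' r' + Y.incl z' := fun r' z' => hwd _ _ _ _ (hrz _)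
  have hhom : ∀ x y, f (x * y) = f x * f y := by
    intro x y
    rw [← hrz x, ← hrz y, hf, hf]
    have e : (h (r x) + X.incl (z x)) * (h (r y) + X.incl (z y)) = h (r x * r y) +
        X.incl (algebraMap _ B (r x) • z y + algebraMap _ B (r y) • z x) := by
      rw [map_mul, map_add, ← hh.2.1, ← hh.2.1, incl_smul, incl_smul]
      linear_combination Exal3L.incl_mul_incl X (z x) (z y)
    rw [e, hf, map_mul, map_add, ← hh'.2.1, ← hh'.2.1, incl_smul, incl_smul]
    linear_combination -(Exal3L.incl_mul_incl Y (z x) (z y))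
  have hfC : ∀ a, f (algebraMap A X.E a) = algebraMap A Y.E a := fun a => by
    rw [← hh.1, show h (MvPolynomial.C a) = h (MvPolynomial.C a) + X.incl 0 by rw [map_zero, add_zero], hf,
      map_zero, add_zero, hh'.1]
  let F : X.E →ₐ[A] Y.E :=
    { toFun := f
      map_one' := by rw [← map_one (algebraMap A X.E), hfC, map_one]
      map_mul' := hhom
      map_zero' := by rw [← map_zero (algebraMap A X.E), hfC, map_zero]
      map_add' := fun x y => by
        rw [← hrz x, ← hrz y, hf, hf, show h (r x) + X.incl (z x) + (h (r y) + X.incl (z y)) =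
          h (r x + r y) + X.incl (z x + z y) by rw [map_add, map_add]; abel, hf, map_add, map_add]
        abel
      commutes' := hfC }
  obtain ⟨e, -⟩ := Exal3L.nonempty_equiv_of_hom F (fun x => by
      change Y.proj (f x) = _
      conv_rhs => rw [← hrz x]
      rw [show f x = h' (r x) + Y.incl (z x) from rfl, map_add, map_add, hh.2.1, hh'.2.1, Exal3L.proj_incl, Exal3L.proj_incl])
    (fun w => by
      change f (X.incl w) = _
      rw [show X.incl w = h 0 + X.incl w by rw [map_zero, zero_add], hf, map_zero, zero_add])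
  exact ⟨e⟩

theorem exists_classified_ext {A B L : Type v} {ι : Type v} {σ : Type t} [CommRing A] [CommRing B] [Algebra A B]
    [AddCommGroup L] [Module B L] (P : Algebra.Presentation A B ι σ) (φ : P.toExtension.Cotangent →ₗ[B] L) :
    ∃ (X : Exal.Ext A B L) (h : P.toExtension.Ring →+* X.E), IsClassifier P X h φ := by
  letI : Module P.toExtension.Ring L := Module.compHom L (algebraMap P.toExtension.Ring B)
  have hsmul : ∀ (r : P.toExtension.Ring) (z : L), r • z = algebraMap P.toExtension.Ring B r • z := fun _ _ => rfl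
  let j0 : L →ₗ[P.toExtension.Ring] P.toExtension.Ring := 0
  have hj : ∀ a b, j0 a • b = j0 b • a := fun a b => by simp [j0]
  let J : Ideal (Cross j0 hj) :=
    { carrier := {x | ∃ hx : x.fst ∈ P.toExtension.ker, x.snd = - φ (Algebra.Extension.Cotangent.mk ⟨x.fst, hx⟩)}
      zero_mem' := ⟨Submodule.zero_mem _, by simp [show (⟨(0 : P.toExtension.Ring), Submodule.zero_mem _⟩ : P.toExtension.ker) = 0 from rfl]⟩
      add_mem' := by
        rintro x y ⟨hx, ex⟩ ⟨hy, ey⟩
        refine ⟨Submodule.add_mem _ hx hy, ?_⟩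
        rw [Cross.add_snd, ex, ey, ← neg_add, ← map_add, ← map_add]
        rfl
      smul_mem' := by
        rintro c x ⟨hx, ex⟩
        refine ⟨Ideal.mul_mem_left _ _ hx, ?_⟩
        change (c * x).snd = _
        rw [Cross.mul_snd, show j0 c.snd = 0 from rfl, zero_smul, add_zero, hsmul x.fst,
          RingHom.mem_ker.1 hx, zero_smul, add_zero, ex, smul_neg, hsmul, ← map_smul, algebraMap_smul, ← map_smul]
        rfl }
  let π : Cross j0 hj ⧸ J →+* B := Ideal.Quotient.lift J ((algebraMap P.toExtension.Ring B).comp Cross.p0)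
    (fun x hx => by obtain ⟨hx, -⟩ := hx; exact hx)
  let h : P.toExtension.Ring →+* Cross j0 hj ⧸ J := (Ideal.Quotient.mk J).comp Cross.inl
  letI : Algebra A (Cross j0 hj ⧸ J) := (h.comp MvPolynomial.C).toAlgebra
  let inc : L →+ Cross j0 hj ⧸ J :=
    AddMonoidHom.mk' (fun z => Ideal.Quotient.mk J ⟨0, z⟩) (fun a b => by
      rw [← map_add]; exact congrArg _ (Cross.ext (zero_add 0).symm rfl))
  have hπh : ∀ r, π (h r) = algebraMap P.toExtension.Ring B r := fun r => rfl
  refine ⟨{ E := Cross j0 hj ⧸ J
            proj := { π with commutes' := fun a => (hπh _).trans ((algebraMap_toExtension P _).trans (MvPolynomial.aeval_C _ a)) }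
            incl := inc
            isExtension := ⟨?_, ?_, ?_, ?_⟩ }, h, fun a => rfl, hπh, fun x => ?_⟩
  · intro b
    obtain ⟨r, rfl⟩ := algebraMap_surjective P b
    exact ⟨h r, hπh r⟩
  · rw [injective_iff_map_eq_zero]
    intro z hz
    obtain ⟨hx, e⟩ := Ideal.Quotient.eq_zero_iff_mem.1 hz
    exact e.trans (by rw [show (⟨_, hx⟩ : P.toExtension.ker) = 0 from rfl, map_zero, map_zero, neg_zero])
  · intro x
    obtain ⟨⟨r, z⟩, rfl⟩ := Ideal.Quotient.mk_surjective x
    constructor
    · intro hr
      have hr' : r ∈ P.toExtension.ker := hr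
      refine ⟨z + φ (Algebra.Extension.Cotangent.mk ⟨r, hr'⟩), ?_⟩
      change Ideal.Quotient.mk J _ = _
      rw [eq_comm, Ideal.Quotient.eq, sub_eq_add_neg]
      refine ⟨by simp only [Cross.add_fst, Cross.neg_fst, neg_zero, add_zero]; exact hr', ?_⟩
      simp
    · rintro ⟨w, hw⟩
      change π (Ideal.Quotient.mk J ⟨r, z⟩) = 0
      rw [← hw]
      exact map_zero (algebraMap P.toExtension.Ring B)
  · intro x z
    obtain ⟨⟨r, w⟩, rfl⟩ := Ideal.Quotient.mk_surjective x
    change Ideal.Quotient.mk J ⟨r, w⟩ * Ideal.Quotient.mk J ⟨0, z⟩ = Ideal.Quotient.mk J ⟨0, algebraMap _ B r • z⟩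
    rw [← map_mul]
    refine congrArg _ (Cross.ext (mul_zero r) ?_)
    simp [hsmul, j0]
  · change Ideal.Quotient.mk J ⟨x, 0⟩ = Ideal.Quotient.mk J ⟨0, φ _⟩
    rw [Ideal.Quotient.eq, sub_eq_add_neg]
    exact ⟨by simp, by simp⟩

end Groth.Agent.CotT3
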