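/-
First Koszul homology: trivial relations and regular sequences.
-/
import Mathlib.RingTheory.Nakayama
import Mathlib.RingTheory.Regular.RegularSequence
import Mathlib.LinearAlgebra.Finsupp.LinearCombination
import Mathlib.RingTheory.LocalRing.MaximalIdeal.Basic
import Mathlib.RingTheory.Noetherian.Basic
import Mathlib.Tactic.Module
import Mathlib.Tactic.LinearCombination

universe u

namespace Groth.Agent.CotT3

variable {R : Type u} [CommRing R]

/-- `Σ r_i a_i`. -/
def dotA {n : ℕ} (a : Fin n → R) : (Fin n → R) →ₗ[R] R := Fintype.linearCombination R a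

theorem dotA_apply {n : ℕ} (a r : Fin n → R) : dotA a r = ∑ i, r i * a i := rfl

theorem dotA_succ {n : ℕ} (a r : Fin (n + 1) → R) :
    dotA a r = dotA (Fin.init a) (Fin.init r) + r (Fin.last n) * a (Fin.last n) := by
  simp only [dotA_apply, Fin.sum_univ_castSucc]
  rfl

/-- The trivial relations among `a`. -/
def trivA {n : ℕ} (a : Fin n → R) : Submodule R (Fin n → R) :=
  Submodule.span R {y | ∃ b c, y = dotA a b • c - dotA a c • b}

/-- Each element of `a` is a nonzerodivisor modulo its predecessors. -/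
def RegA {n : ℕ} (a : Fin n → R) : Prop :=
  ∀ (i : Fin n) (x : R), a i * x ∈ Ideal.span (a '' Set.Iio i) → x ∈ Ideal.span (a '' Set.Iio i)

theorem dotA_mem_span {n : ℕ} (a r : Fin n → R) : dotA a r ∈ Ideal.span (Set.range a) :=
  (dotA_apply a r).symm ▸ Ideal.sum_mem _ fun i _ => Ideal.mul_mem_left _ _ (Ideal.subset_span ⟨i, rfl⟩)

theorem exists_dotA {n : ℕ} (a : Fin n → R) {x : R} (hx : x ∈ Ideal.span (Set.range a)) :
    ∃ c, x = dotA a c := by
  obtain ⟨c, hc⟩ := (Ideal.mem_span_range_iff_exists_fun).1 hx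
  exact ⟨c, hc.symm⟩

theorem image_Iio_castSucc {n : ℕ} (a : Fin (n + 1) → R) (i : Fin n) :
    a '' Set.Iio i.castSucc = Fin.init a '' Set.Iio i := by
  ext x
  constructor
  · rintro ⟨j, hj, rfl⟩
    have hjn : j ≠ Fin.last n := ne_of_lt (lt_trans hj (Fin.castSucc_lt_last i))
    obtain ⟨k, rfl⟩ := Fin.exists_castSucc_eq.2 hjn
    exact ⟨k, Fin.castSucc_lt_castSucc_iff.1 hj, rfl⟩
  · rintro ⟨k, hk, rfl⟩
    exact ⟨k.castSucc, Fin.castSucc_lt_castSucc_iff.2 hk, rfl⟩

theorem image_Iio_last {n : ℕ} (a : Fin (n + 1) → R) :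
    a '' Set.Iio (Fin.last n) = Set.range (Fin.init a) := by
  ext x
  constructor
  · rintro ⟨j, hj, rfl⟩
    obtain ⟨k, rfl⟩ := Fin.exists_castSucc_eq.2 (ne_of_lt hj)
    exact ⟨k, rfl⟩
  · rintro ⟨k, rfl⟩
    exact ⟨k.castSucc, Fin.castSucc_lt_last k, rfl⟩

/-- A regular sequence has only trivial relations. -/
theorem mem_trivA_of_regA : ∀ {n : ℕ} (a : Fin n → R), RegA a → ∀ r, dotA a r = 0 → r ∈ trivA a
  | 0, a, _, r, _ => by rw [Subsingleton.elim r 0]; exact Submodule.zero_mem _
  | n + 1, a, ha, r, hr => by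
    have ha' : RegA (Fin.init a) := fun i x hx => by
      have := ha i.castSucc x (by rw [image_Iio_castSucc]; exact hx)
      rwa [image_Iio_castSucc] at this
    have hl : r (Fin.last n) ∈ Ideal.span (Set.range (Fin.init a)) := by
      rw [← image_Iio_last]
      refine ha _ _ ?_
      rw [image_Iio_last, mul_comm]
      rw [dotA_succ] at hr
      rw [eq_neg_of_add_eq_zero_right hr]
      exact Ideal.neg_mem_iff _ |>.2 (dotA_mem_span _ _)
    obtain ⟨c, hc⟩ := exists_dotA _ hl
    let e : Fin (n + 1) → R := Fin.snoc 0 1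
    let c' : Fin (n + 1) → R := Fin.snoc c 0
    have hc' : dotA a c' = r (Fin.last n) := by rw [dotA_succ]; simp [c', hc]
    have he : dotA a e = a (Fin.last n) := by rw [dotA_succ]; simp [e]
    let r' := r - (dotA a c' • e - dotA a e • c')
    have hr'0 : dotA a r' = 0 := by simp [r', hr, map_sub, map_smul, smul_eq_mul, mul_comm]
    have hr'l : r' (Fin.last n) = 0 := by simp [r', e, c', hc']
    have hi : dotA (Fin.init a) (Fin.init r') = 0 := by
      rw [dotA_succ, hr'l] at hr'0; simpa using hr'0
    have hmem := mem_trivA_of_regA (Fin.init a) ha' _ hi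
    let ext : (Fin n → R) →ₗ[R] (Fin (n + 1) → R) :=
      { toFun := fun v => Fin.snoc v 0
        map_add' := fun v w => funext fun i => by
          induction i using Fin.lastCases <;> simp
        map_smul' := fun s v => funext fun i => by
          induction i using Fin.lastCases <;> simp }
    have hext : ∀ v, dotA a (ext v) = dotA (Fin.init a) v := fun v => by
      rw [dotA_succ]; simp [ext]
    have hle : (trivA (Fin.init a)).map ext ≤ trivA a := by
      rw [trivA, Submodule.map_span, Submodule.span_le]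
      rintro _ ⟨_, ⟨b, d, rfl⟩, rfl⟩
      exact Submodule.subset_span ⟨ext b, ext d, by rw [hext, hext, map_sub, map_smul, map_smul]⟩
    have hr' : r' ∈ trivA a := by
      have : r' = ext (Fin.init r') := funext fun i => by
        induction i using Fin.lastCases with
        | last => simp [ext, hr'l]
        | cast k => simp [ext, Fin.init]
      rw [this]
      exact hle ⟨_, hmem, rfl⟩
    have : r = r' + (dotA a c' • e - dotA a e • c') := by simp [r']
    rw [this]
    exact Submodule.add_mem _ hr' (Submodule.subset_span ⟨c', e, rfl⟩)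

theorem trivA_split {n : ℕ} (a : Fin (n + 1) → R) {y : Fin (n + 1) → R} (hy : y ∈ trivA a) :
    ∃ c, y (Fin.last n) = dotA (Fin.init a) c ∧
      Fin.init y + a (Fin.last n) • c ∈ trivA (Fin.init a) := by
  induction hy using Submodule.span_induction with
  | mem x hx =>
    obtain ⟨b, d, rfl⟩ := hx
    refine ⟨d (Fin.last n) • Fin.init b - b (Fin.last n) • Fin.init d, ?_, ?_⟩
    · simp only [map_sub, map_smul, smul_eq_mul, Pi.sub_apply, Pi.smul_apply, dotA_succ a]
      ring
    · refine Submodule.subset_span ⟨Fin.init b, Fin.init d, ?_⟩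
      funext k
      simp only [Fin.init, Pi.add_apply, Pi.sub_apply, Pi.smul_apply, smul_eq_mul, dotA_succ a]
      ring
  | zero => exact ⟨0, by simp, by simp [show Fin.init (0 : Fin (n + 1) → R) = 0 from rfl]⟩
  | add x y _ _ hx hy =>
    obtain ⟨c, hc, hc'⟩ := hx
    obtain ⟨d, hd, hd'⟩ := hy
    refine ⟨c + d, by rw [Pi.add_apply, hc, hd, map_add], ?_⟩
    have : Fin.init (x + y) + a (Fin.last n) • (c + d) =
        (Fin.init x + a (Fin.last n) • c) + (Fin.init y + a (Fin.last n) • d) := by
      funext k; simp [Fin.init]; ring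
    rw [this]; exact Submodule.add_mem _ hc' hd'
  | smul s x _ hx =>
    obtain ⟨c, hc, hc'⟩ := hx
    refine ⟨s • c, by rw [Pi.smul_apply, hc, map_smul], ?_⟩
    have : Fin.init (s • x) + a (Fin.last n) • (s • c) = s • (Fin.init x + a (Fin.last n) • c) := by
      funext k; simp [Fin.init]; ring
    rw [this]; exact Submodule.smul_mem _ _ hc'

/-- Rigidity: in a Noetherian local ring a sequence in the maximal ideal with only trivial relations is regular. -/
theorem regA_of_trivA [IsLocalRing R] [IsNoetherianRing R] :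
    ∀ {n : ℕ} (a : Fin n → R), (∀ i, a i ∈ IsLocalRing.maximalIdeal R) →
      (∀ r, dotA a r = 0 → r ∈ trivA a) → RegA a
  | 0, a, _, _ => fun i => i.elim0
  | n + 1, a, hm, h => by
    have key : ∀ r, dotA (Fin.init a) r = 0 → r ∈ trivA (Fin.init a) := by
      let Q : Submodule R (Fin n → R) := LinearMap.ker (dotA (Fin.init a))
      suffices hQ : Q ≤ trivA (Fin.init a) from fun r hr => hQ hr
      refine Submodule.le_of_le_smul_of_le_jacobson_bot (I := IsLocalRing.maximalIdeal R)
        (IsNoetherian.noetherian Q) (IsLocalRing.maximalIdeal_le_jacobson _) ?_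
      intro r hr
      have hr0 : dotA a (Fin.snoc r 0) = 0 := by
        rw [dotA_succ]; simpa using LinearMap.mem_ker.1 hr
      obtain ⟨c, hc, hc'⟩ := trivA_split a (h _ hr0)
      simp only [Fin.snoc_last, Fin.init_snoc] at hc hc'
      have : r = (r + a (Fin.last n) • c) + (- a (Fin.last n)) • c := by module
      rw [this]
      exact Submodule.add_mem_sup hc' (Submodule.smul_mem_smul ((Ideal.neg_mem_iff _).2 (hm _))
        (LinearMap.mem_ker.2 hc.symm))
    have hreg := regA_of_trivA (Fin.init a) (fun i => hm _) key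
    intro i x hx
    induction i using Fin.lastCases with
    | last =>
      rw [image_Iio_last] at hx ⊢
      obtain ⟨c, hc⟩ := exists_dotA _ hx
      have h0 : dotA a (Fin.snoc (-c) x) = 0 := by
        rw [dotA_succ]
        simp only [Fin.init_snoc, Fin.snoc_last, map_neg, ← hc]
        ring
      obtain ⟨d, hd, -⟩ := trivA_split a (h _ h0)
      rw [Fin.snoc_last] at hd
      rw [hd]
      exact dotA_mem_span _ _
    | cast k =>
      rw [image_Iio_castSucc] at hx ⊢
      exact hreg k x hx

theorem regA_iff_isWeaklyRegular {n : ℕ} (a : Fin n → R) :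
    RegA a ↔ RingTheory.Sequence.IsWeaklyRegular R (List.ofFn a) := by
  have hspan : ∀ i : Fin n, Ideal.ofList ((List.ofFn a).take i) = Ideal.span (a '' Set.Iio i) := by
    intro i
    refine congrArg Ideal.span (Set.ext fun x => ?_)
    simp only [Set.mem_setOf_eq, Set.mem_image, Set.mem_Iio, List.mem_take_iff_getElem,
      List.getElem_ofFn, List.length_ofFn]
    constructor
    · rintro ⟨j, hj, rfl⟩
      exact ⟨⟨j, lt_of_lt_of_le hj (min_le_right _ _)⟩, Fin.lt_def.2 (lt_of_lt_of_le hj (min_le_left _ _)), rfl⟩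
    · rintro ⟨j, hj, rfl⟩
      exact ⟨j, lt_min hj j.2, rfl⟩
  rw [RingTheory.Sequence.isWeaklyRegular_iff]
  constructor
  · intro h i hi
    have hi' : i < n := by simpa using hi
    rw [List.getElem_ofFn, isSMulRegular_iff_right_eq_zero_of_smul]
    intro y hy
    obtain ⟨x, rfl⟩ := Submodule.Quotient.mk_surjective _ y
    have e : Ideal.ofList ((List.ofFn a).take i) = Ideal.span (a '' Set.Iio ⟨i, hi'⟩) := hspan ⟨i, hi'⟩
    rw [← Submodule.Quotient.mk_smul, Submodule.Quotient.mk_eq_zero, Ideal.smul_eq_mul, Ideal.mul_top,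
      e, smul_eq_mul] at hy
    rw [Submodule.Quotient.mk_eq_zero, Ideal.smul_eq_mul, Ideal.mul_top, e]
    exact h _ _ hy
  · intro h i x hx
    have := h i (by simp)
    rw [List.getElem_ofFn, isSMulRegular_iff_right_eq_zero_of_smul] at this
    have h2 := this (Submodule.Quotient.mk x) (by
      rw [← Submodule.Quotient.mk_smul, Submodule.Quotient.mk_eq_zero, Ideal.smul_eq_mul, Ideal.mul_top, hspan]
      exact hx)
    rw [Submodule.Quotient.mk_eq_zero, Ideal.smul_eq_mul, Ideal.mul_top, hspan] at h2
    exact h2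

end Groth.Agent.CotT3
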