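/-
Presentations of a quotient ring without variables; T² and trivial relations.
-/
import Groth.Agent.Lib.CotT3.Comp
import Groth.Agent.Lib.CotT3.Koszul
import Mathlib.Algebra.MvPolynomial.Equiv

set_option backward.isDefEq.respectTransparency false

universe u v w t m

open TensorProduct

noncomputable section

namespace Groth.Agent.CotT3

open _root_.CotT

section Fin

variable {A : Type u} {B : Type v} {ι : Type w}
variable [CommRing A] [CommRing B] [Algebra A B]
variable {n : ℕ} (P : Algebra.Presentation A B ι (Fin n))

/-- The relation module with finitely many relations as functions. -/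
def relFun : relMod P ≃ₗ[P.toExtension.Ring] (Fin n → P.toExtension.Ring) :=
  Finsupp.linearEquivFunOnFinite P.toExtension.Ring P.toExtension.Ring (Fin n)

theorem relFun_dotA (f : relMod P) : dotA (rel P) (relFun P f) = jmap P f := by
  rw [dotA_apply, jmap, Finsupp.linearCombination_apply, Finsupp.sum_fintype _ _ (by simp)]
  rfl

theorem mem_trivRel_iff (y : relMod P) : y ∈ trivRel P ↔ relFun P y ∈ trivA (rel P) := by
  have : (trivRel P).map (relFun P).toLinearMap = trivA (rel P) := by
    rw [trivRel, Submodule.map_span, trivA]
    congr 1
    ext z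
    constructor
    · rintro ⟨_, ⟨a, b, rfl⟩, rfl⟩
      exact ⟨relFun P a, relFun P b, by
        rw [LinearEquiv.coe_coe, map_sub, map_smul, map_smul, relFun_dotA, relFun_dotA]⟩
    · rintro ⟨b, c, rfl⟩
      refine ⟨_, ⟨(relFun P).symm b, (relFun P).symm c, rfl⟩, ?_⟩
      rw [LinearEquiv.coe_coe, map_sub, map_smul, map_smul, ← relFun_dotA, ← relFun_dotA,
        LinearEquiv.apply_symm_apply, LinearEquiv.apply_symm_apply]
  constructor
  · intro hy
    rw [← this]; exact ⟨y, hy, rfl⟩
  · intro hy
    rw [← this] at hy
    obtain ⟨z, hz, hzy⟩ := hy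
    rwa [← (relFun P).injective hzy]

theorem subsingleton_L2_iff :
    Subsingleton (L2 P) ↔ ∀ r, dotA (rel P) r = 0 → r ∈ trivA (rel P) := by
  constructor
  · intro h r hr
    have hq : (relFun P).symm r ∈ relKer P := by
      change jmap P _ = 0
      rw [← relFun_dotA, LinearEquiv.apply_symm_apply, hr]
    have := (L2mk_eq_zero_iff P ⟨_, hq⟩).1 (Subsingleton.elim _ _)
    rw [mem_trivRel_iff] at this
    simpa using this
  · intro h
    refine subsingleton_of_forall_eq 0 fun z => ?_
    obtain ⟨q, rfl⟩ := L2mk_surjective P z
    rw [L2mk_eq_zero_iff, mem_trivRel_iff]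
    exact h _ (by rw [relFun_dotA]; exact q.2)

end Fin

section Vanish

variable {A : Type u} {B : Type v} {ι : Type w} {σ : Type t}
variable [CommRing A] [CommRing B] [Algebra A B]
variable (P : Algebra.Presentation A B ι σ) (M : Type m) [AddCommGroup M] [Module B M]

theorem subsingleton_T2_of_subsingleton_L2 [Subsingleton (L2 P)] : Subsingleton (T2 P M) :=
  ⟨fun a b => by
    obtain ⟨a, rfl⟩ := Submodule.Quotient.mk_surjective _ a
    obtain ⟨b, rfl⟩ := Submodule.Quotient.mk_surjective _ b
    exact congrArg _ (LinearMap.ext fun y => by rw [Subsingleton.elim y 0, map_zero, map_zero])⟩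

end Vanish

section NoVars

variable {A : Type u} {B : Type v} [CommRing A] [CommRing B] [Algebra A B]
variable (hs : Function.Surjective (algebraMap A B)) {n : ℕ} (a : Fin n → A)
variable (hI : RingHom.ker (algebraMap A B) = Ideal.span (Set.range a))

/-- Generators of a quotient with no variables. -/
def quotGen : Algebra.Generators A B PEmpty.{u + 1} :=
  Algebra.Generators.ofSurjective PEmpty.elim fun b => by
    obtain ⟨x, rfl⟩ := hs b
    exact ⟨MvPolynomial.C x, by simp⟩

/-- The constants identify `A` with the polynomial ring without variables. -/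
def noVarEquiv : A ≃+* MvPolynomial PEmpty.{u + 1} A :=
  (MvPolynomial.isEmptyAlgEquiv A PEmpty.{u + 1}).symm.toRingEquiv

theorem noVarEquiv_apply (x : A) : noVarEquiv x = MvPolynomial.C x := by
  apply (MvPolynomial.isEmptyAlgEquiv A PEmpty.{u + 1}).injective
  change (MvPolynomial.isEmptyAlgEquiv A PEmpty.{u + 1}) ((MvPolynomial.isEmptyAlgEquiv A PEmpty.{u + 1}).symm x) = _
  rw [AlgEquiv.apply_symm_apply, ← MvPolynomial.algebraMap_eq, AlgEquiv.commutes]
  rfl

theorem mem_ker_quotGen (x : A) :
    noVarEquiv x ∈ (quotGen hs).ker ↔ x ∈ RingHom.ker (algebraMap A B) := by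
  rw [Algebra.Generators.ker_eq_ker_aeval_val, RingHom.mem_ker, RingHom.mem_ker, noVarEquiv_apply,
    MvPolynomial.aeval_C]

/-- The presentation of a quotient by finitely many chosen generators of the kernel, without variables. -/
def quotPres : Algebra.Presentation A B PEmpty.{u + 1} (Fin n) where
  toGenerators := quotGen hs
  relation i := noVarEquiv (a i)
  span_range_relation_eq_ker := by
    refine le_antisymm (Ideal.span_le.2 ?_) fun x hx => ?_
    · rintro _ ⟨i, rfl⟩
      exact (mem_ker_quotGen hs _).2 (hI ▸ Ideal.subset_span ⟨i, rfl⟩)
    · obtain ⟨y, rfl⟩ := noVarEquiv.surjective x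
      rw [mem_ker_quotGen, hI] at hx
      have := Ideal.mem_map_of_mem (noVarEquiv (A := A)).toRingHom hx
      rw [Ideal.map_span, ← Set.range_comp] at this
      exact this

theorem rel_quotPres (i : Fin n) : rel (quotPres hs a hI) i = noVarEquiv (a i) := rfl

/-- Syzygies transported. -/
theorem subsingleton_L2_quotPres_iff :
    Subsingleton (L2 (quotPres hs a hI)) ↔ ∀ r, dotA a r = 0 → r ∈ trivA a := by
  let e : A ≃+* (quotPres hs a hI).toExtension.Ring := noVarEquiv
  have hd : ∀ r, dotA (rel (quotPres hs a hI)) (fun i => e (r i)) = e (dotA a r) := fun r => by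
    simp only [dotA_apply, map_sum, map_mul]
    rfl
  have ht : ∀ r, r ∈ trivA a ↔ (fun i => e (r i)) ∈ trivA (rel (quotPres hs a hI)) := by
    intro r
    constructor
    · intro hr
      induction hr using Submodule.span_induction with
      | mem x hx =>
        obtain ⟨b, c, rfl⟩ := hx
        refine Submodule.subset_span ⟨fun i => e (b i), fun i => e (c i), ?_⟩
        funext i
        simp [hd]
      | zero => exact (show (fun i : Fin n => e ((0 : Fin n → A) i)) = 0 from funext fun i => by simp) ▸
          Submodule.zero_mem _
      | add x y _ _ hx hy =>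
        have : (fun i => e ((x + y) i)) = (fun i => e (x i)) + fun i => e (y i) := funext fun i => by simp
        rw [this]; exact Submodule.add_mem _ hx hy
      | smul s x _ hx =>
        have : (fun i => e ((s • x) i)) = e s • fun i => e (x i) := funext fun i => by simp
        rw [this]; exact Submodule.smul_mem _ _ hx
    · intro hr
      have : ∀ y, y ∈ trivA (rel (quotPres hs a hI)) → (fun i => e.symm (y i)) ∈ trivA a := by
        intro y hy
        induction hy using Submodule.span_induction with
        | mem x hx =>
          obtain ⟨b, c, rfl⟩ := hx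
          refine Submodule.subset_span ⟨fun i => e.symm (b i), fun i => e.symm (c i), ?_⟩
          funext i
          apply e.injective
          have hb := hd (fun i => e.symm (b i))
          have hc := hd (fun i => e.symm (c i))
          simp only [RingEquiv.apply_symm_apply] at hb hc
          simp [← hb, ← hc]
        | zero => exact (show (fun i : Fin n => e.symm ((0 : Fin n → _) i)) = 0 from funext fun i => by simp) ▸
            Submodule.zero_mem _
        | add x y _ _ hx hy =>
          have : (fun i => e.symm ((x + y) i)) = (fun i => e.symm (x i)) + fun i => e.symm (y i) :=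
            funext fun i => by simp
          rw [this]; exact Submodule.add_mem _ hx hy
        | smul s x _ hx =>
          have : (fun i => e.symm ((s • x) i)) = e.symm s • fun i => e.symm (x i) := funext fun i => by simp
          rw [this]; exact Submodule.smul_mem _ _ hx
      simpa using this _ hr
  rw [subsingleton_L2_iff]
  constructor
  · intro h r hr
    exact (ht r).2 (h _ (by rw [hd, hr, map_zero]))
  · intro h r hr
    have hr' : dotA a (fun i => e.symm (r i)) = 0 := by
      apply e.injective
      rw [← hd]
      simp [hr]
    simpa using (ht _).1 (h _ hr')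

end NoVars

end Groth.Agent.CotT3
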