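/-
T¹ and formal smoothness; T² of algebras which are locally complete intersections in a polynomial ring.
-/
import Groth.Agent.Lib.CotT3.Quot
import Mathlib.RingTheory.Smooth.Basic
import Mathlib.RingTheory.Localization.AtPrime.Basic

set_option backward.isDefEq.respectTransparency false

universe u v w t m

open TensorProduct

noncomputable section

namespace Groth.Agent.CotT3

open _root_.CotT

section FS

variable {A : Type u} {B : Type v} {ι : Type w} {σ : Type t}
variable [CommRing A] [CommRing B] [Algebra A B]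
variable (P : Algebra.Presentation A B ι σ)

theorem formallySmooth_of_subsingleton_T1 (h : Subsingleton (T1 P P.toExtension.Cotangent)) :
    Algebra.FormallySmooth A B := by
  have : Algebra.FormallySmooth A P.toExtension.Ring := inferInstanceAs (Algebra.FormallySmooth A (MvPolynomial ι A))
  rw [P.toExtension.formallySmooth_iff_split_injection]
  exact (subsingleton_T1_iff P _).1 h LinearMap.id

theorem subsingleton_T1_of_formallySmooth [Algebra.FormallySmooth A B] (M : Type m) [AddCommGroup M] [Module B M] :
    Subsingleton (T1 P M) := by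
  have : Algebra.FormallySmooth A P.toExtension.Ring := inferInstanceAs (Algebra.FormallySmooth A (MvPolynomial ι A))
  obtain ⟨l, hl⟩ := P.toExtension.formallySmooth_iff_split_injection.1 ‹_›
  refine (subsingleton_T1_iff P M).2 fun φ => ⟨φ ∘ₗ l, ?_⟩
  rw [LinearMap.comp_assoc, hl, LinearMap.comp_id]

/-- If d₂ is injective and the algebra is formally smooth, T² vanishes. -/
theorem subsingleton_T2_of_formallySmooth [Algebra.FormallySmooth A B] (hd : Function.Injective (d2 P))
    (M : Type m) [AddCommGroup M] [Module B M] : Subsingleton (T2 P M) := by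
  have : Algebra.FormallySmooth A P.toExtension.Ring := inferInstanceAs (Algebra.FormallySmooth A (MvPolynomial ι A))
  obtain ⟨l, hl⟩ := P.toExtension.formallySmooth_iff_split_injection.1 ‹_›
  haveI : Module.Projective B P.toExtension.Cotangent := Module.Projective.of_split _ l hl
  obtain ⟨s, hs⟩ := Module.projective_lifting_property (toCot P) LinearMap.id (toCot_surjective P)
  refine subsingleton_of_forall_eq 0 fun x => ?_
  obtain ⟨φ, rfl⟩ := Submodule.Quotient.mk_surjective _ x
  rw [Submodule.Quotient.mk_eq_zero]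
  have hz : ∀ y, y - s (toCot P y) ∈ LinearMap.range (d2 P) := fun y => (exact_d2_toCot P _).1 (by
    rw [map_sub, show toCot P (s (toCot P y)) = toCot P y from LinearMap.congr_fun hs _, sub_self])
  let ret : L1 P →ₗ[B] LinearMap.range (d2 P) :=
    LinearMap.codRestrict _ (LinearMap.id - s ∘ₗ toCot P) hz
  refine ⟨φ ∘ₗ (LinearEquiv.ofInjective (d2 P) hd).symm.toLinearMap ∘ₗ ret, LinearMap.ext fun z => ?_⟩
  have : ret (d2 P z) = LinearEquiv.ofInjective (d2 P) hd z := Subtype.ext (by
    change d2 P z - s (toCot P (d2 P z)) = d2 P z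
    rw [show toCot P (d2 P z) = 0 from LinearMap.congr_fun (toCot_comp_d2 P) z, map_zero, sub_zero])
  rw [d2Star_apply, LinearMap.comp_apply, LinearMap.comp_apply, LinearMap.comp_apply, this]
  simp

end FS

section LocalTriv

variable {R : Type*} [CommRing R] (p : Ideal R) [p.IsPrime] {m : ℕ} (a : Fin m → R)

local notation "L" => Localization.AtPrime p

theorem exists_lift_trivA {y : Fin m → L} (hy : y ∈ trivA (fun i => algebraMap R L (a i))) :
    ∃ t, t ∉ p ∧ ∃ y0 ∈ trivA a, ∀ i, algebraMap R L t * y i = algebraMap R L (y0 i) := by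
  have hd : ∀ b, dotA (fun i => algebraMap R L (a i)) (fun i => algebraMap R L (b i)) =
      algebraMap R L (dotA a b) := fun b => by simp [dotA_apply]
  have h1 : (1 : R) ∉ p := fun h => (Ideal.IsPrime.ne_top ‹_›) ((Ideal.eq_top_iff_one p).2 h)
  induction hy using Submodule.span_induction with
  | mem x hx =>
    obtain ⟨b, c, rfl⟩ := hx
    obtain ⟨⟨s, hs⟩, hb⟩ := IsLocalization.exist_integer_multiples_of_finite p.primeCompl b
    obtain ⟨⟨s', hs'⟩, hc⟩ := IsLocalization.exist_integer_multiples_of_finite p.primeCompl c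
    choose b0 hb0 using hb
    choose c0 hc0 using hc
    have eb : (fun i => algebraMap R L (b0 i)) = algebraMap R L s • b := funext fun i => by
      rw [hb0]; simp [Submonoid.smul_def, Algebra.smul_def]
    have ec : (fun i => algebraMap R L (c0 i)) = algebraMap R L s' • c := funext fun i => by
      rw [hc0]; simp [Submonoid.smul_def, Algebra.smul_def]
    refine ⟨s * s', ‹p.IsPrime›.mul_notMem hs hs', _, Submodule.subset_span ⟨b0, c0, rfl⟩, fun i => ?_⟩
    simp only [Pi.sub_apply, Pi.smul_apply, smul_eq_mul, map_sub, map_mul, ← hd, eb, ec, map_smul]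
    rw [show algebraMap R L (b0 i) = algebraMap R L s * b i from congr_fun eb i,
      show algebraMap R L (c0 i) = algebraMap R L s' * c i from congr_fun ec i]
    ring
  | zero => exact ⟨1, h1, 0, Submodule.zero_mem _, fun i => by simp⟩
  | add x x' _ _ hx hx' =>
    obtain ⟨t, ht, y0, hy0, h⟩ := hx
    obtain ⟨t', ht', y0', hy0', h'⟩ := hx'
    refine ⟨t * t', ‹p.IsPrime›.mul_notMem ht ht', t' • y0 + t • y0',
      Submodule.add_mem _ (Submodule.smul_mem _ _ hy0) (Submodule.smul_mem _ _ hy0'), fun i => ?_⟩
    simp only [Pi.add_apply, Pi.smul_apply, smul_eq_mul, map_add, map_mul, ← h, ← h']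
    ring
  | smul r x _ hx =>
    obtain ⟨t, ht, y0, hy0, h⟩ := hx
    obtain ⟨⟨r0, ⟨s, hs⟩⟩, hr⟩ := IsLocalization.surj p.primeCompl r
    refine ⟨t * s, ‹p.IsPrime›.mul_notMem ht hs, r0 • y0, Submodule.smul_mem _ _ hy0, fun i => ?_⟩
    simp only [Pi.smul_apply, smul_eq_mul, map_mul, ← h, ← hr]
    ring

theorem exists_smul_mem_trivA (y : Fin m → R)
    (hy : (fun i => algebraMap R L (y i)) ∈ trivA (fun i => algebraMap R L (a i))) :
    ∃ t, t ∉ p ∧ t • y ∈ trivA a := by
  classical
  obtain ⟨t, ht, y0, hy0, h⟩ := exists_lift_trivA p a hy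
  have hu : ∀ i, ∃ u : p.primeCompl, (u : R) * (t * y i) = (u : R) * y0 i := fun i =>
    (IsLocalization.eq_iff_exists p.primeCompl L).1 (by rw [map_mul, h])
  choose u hu using hu
  let U : p.primeCompl := ∏ i, u i
  refine ⟨(U : R) * t, ‹p.IsPrime›.mul_notMem U.2 ht, ?_⟩
  have : ((U : R) * t) • y = (U : R) • y0 := funext fun i => by
    have hsplit : (U : R) = (∏ j ∈ Finset.univ.erase i, u j : p.primeCompl) * (u i : R) := by
      rw [← Submonoid.coe_mul, Finset.prod_erase_mul _ _ (Finset.mem_univ i)]
    simp only [Pi.smul_apply, smul_eq_mul, hsplit]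
    linear_combination ((∏ j ∈ Finset.univ.erase i, u j : p.primeCompl) : R) * hu i
  rw [this]
  exact Submodule.smul_mem _ _ hy0

end LocalTriv

section Inj

variable {A : Type u} {B : Type v} {ι : Type w} {σ : Type t}
variable [CommRing A] [CommRing B] [Algebra A B]
variable (P : Algebra.Presentation A B ι σ)

/-- d₂ is injective if the ideal of relations is locally generated by regular sequences. -/
theorem d2_injective_of_local
    (h : ∀ (p : Ideal P.toExtension.Ring) [p.IsPrime], P.toExtension.ker ≤ p →
      ∃ (n : ℕ) (a : Fin n → P.toExtension.Ring), (∀ l, a l ∈ P.toExtension.ker) ∧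
        P.toExtension.ker.map (algebraMap _ (Localization.AtPrime p)) =
          Ideal.span (Set.range fun l => algebraMap _ (Localization.AtPrime p) (a l)) ∧
        RegA (fun l => algebraMap P.toExtension.Ring (Localization.AtPrime p) (a l))) :
    Function.Injective (d2 P) := by
  classical
  rw [← LinearMap.ker_eq_bot, eq_bot_iff]
  intro z hz
  obtain ⟨q, rfl⟩ := L2mk_surjective P z
  rw [LinearMap.mem_ker, d2_L2mk] at hz
  rw [Submodule.mem_bot, L2mk_eq_zero_iff]
  have hq0 : ∀ s, (q : relMod P) s ∈ P.toExtension.ker := fun s => by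
    have h1 := congrArg (fun x => (L1basis P).repr x s) hz
    simpa [L1basis, Algebra.TensorProduct.basis_repr_tmul] using h1
  let J : Ideal P.toExtension.Ring := (trivRel P).comap (LinearMap.toSpanSingleton _ _ (q : relMod P))
  suffices hJ : J = ⊤ by
    have : (1 : P.toExtension.Ring) ∈ J := hJ ▸ Submodule.mem_top
    simpa [J] using this
  by_contra hJ
  obtain ⟨p, hp, hJp⟩ := Ideal.exists_le_maximal J hJ
  have hIp : P.toExtension.ker ≤ p := fun r hr => hJp (by
    change r • (q : relMod P) ∈ trivRel P
    exact smul_mem_trivRel_of_mem_ker P hr q)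
  obtain ⟨n, a, ha, hI, hreg⟩ := h p hIp
  have he : ∀ l, ∃ e : relMod P, jmap P e = a l := fun l => by
    have : a l ∈ LinearMap.range (jmap P) := by rw [range_jmap]; exact ha l
    exact this
  choose e he using he
  let E : (Fin n → P.toExtension.Ring) →ₗ[P.toExtension.Ring] relMod P :=
    Fintype.linearCombination P.toExtension.Ring e
  have hE : ∀ b, jmap P (E b) = dotA a b := fun b => by
    simp [E, Fintype.linearCombination_apply, dotA_apply, map_sum, he]
  have hEt : (trivA a).map E ≤ trivRel P := by
    rw [trivA, Submodule.map_span, Submodule.span_le]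
    rintro _ ⟨_, ⟨b, c, rfl⟩, rfl⟩
    exact Submodule.subset_span ⟨E b, E c, by rw [map_sub, map_smul, map_smul, hE, hE]⟩
  -- write a multiple of q as a combination of the a l
  have hc : ∀ s, ∃ u : P.toExtension.Ring, u ∉ p ∧
      ∃ c : Fin n → P.toExtension.Ring, u * (q : relMod P) s = dotA a c := by
    intro s
    have h1 := Ideal.mem_map_of_mem (algebraMap _ (Localization.AtPrime p)) (hq0 s)
    rw [hI, Set.range_comp' , ← Ideal.map_span,
      IsLocalization.mem_map_algebraMap_iff p.primeCompl (Localization.AtPrime p)] at h1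
    obtain ⟨⟨⟨x, hx⟩, ⟨v, hv⟩⟩, hxv⟩ := h1
    rw [← map_mul, IsLocalization.eq_iff_exists p.primeCompl] at hxv
    obtain ⟨⟨w, hw⟩, hwx⟩ := hxv
    obtain ⟨c, rfl⟩ := exists_dotA a hx
    refine ⟨w * v, hp.isPrime.mul_notMem hw hv, w • c, ?_⟩
    rw [map_smul, smul_eq_mul]
    linear_combination hwx
  choose u hu c hc using hc
  let T := (q : relMod P).support
  let U := ∏ s ∈ T, u s
  have hU : U ∉ p := fun hm => by
    obtain ⟨s, _, hs⟩ := (hp.isPrime.prod_mem_iff).1 hm
    exact hu s hs
  let g : Fin n → relMod P := fun l => ∑ s ∈ T, Finsupp.single s ((∏ t ∈ T.erase s, u t) * c s l)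
  have hg : U • (q : relMod P) = ∑ l, a l • g l := by
    conv_lhs => rw [← Finsupp.sum_single (q : relMod P)]
    simp only [Finsupp.sum, g, Finset.smul_sum]
    rw [Finset.sum_comm]
    refine Finset.sum_congr rfl fun s hs => ?_
    simp only [Finsupp.smul_single, smul_eq_mul]
    rw [← Finsupp.single_finsetSum]
    congr 1
    rw [show U = (∏ t ∈ T.erase s, u t) * u s from (Finset.prod_erase_mul _ _ hs).symm, mul_assoc, hc,
      dotA_apply, Finset.mul_sum]
    exact Finset.sum_congr rfl fun l _ => by ring
  have hrel : dotA a (fun l => jmap P (g l)) = 0 := by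
    have h1 := congrArg (jmap P) hg
    rw [map_smul, show jmap P (q : relMod P) = 0 from q.2, smul_zero, map_sum] at h1
    rw [dotA_apply, h1]
    exact Finset.sum_congr rfl fun l _ => by rw [map_smul, smul_eq_mul, mul_comm]
  obtain ⟨t, ht, htr⟩ := exists_smul_mem_trivA p a (fun l => jmap P (g l)) (mem_trivA_of_regA _ hreg _ (by
    have h1 := congrArg (algebraMap P.toExtension.Ring (Localization.AtPrime p)) hrel
    simpa [dotA_apply, map_sum] using h1))
  refine hp.isPrime.mul_notMem ht hU (hJp ?_)
  change (t * U) • (q : relMod P) ∈ trivRel P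
  have key : ∀ b c : relMod P, jmap P b • c - jmap P c • b ∈ trivRel P := fun b c =>
    Submodule.subset_span ⟨b, c, rfl⟩
  have hsplit : (t * U) • (q : relMod P) =
      ∑ l, t • (jmap P (e l) • g l - jmap P (g l) • e l) + E (t • fun l => jmap P (g l)) := by
    rw [mul_smul, hg, Finset.smul_sum, map_smul]
    simp only [E, Fintype.linearCombination_apply, Finset.smul_sum, ← Finset.sum_add_distrib, he]
    refine Finset.sum_congr rfl fun l _ => ?_
    rw [smul_sub]; abel
  rw [hsplit]
  exact Submodule.add_mem _ (Submodule.sum_mem _ fun l _ => Submodule.smul_mem _ _ (key _ _))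
    (hEt ⟨_, htr, rfl⟩)

end Inj

end Groth.Agent.CotT3
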