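/-
T² of a localization vanishes.
-/
import Groth.Agent.Lib.CotT3.Smooth
import Mathlib.Algebra.MvPolynomial.Equiv
import Mathlib.Algebra.Polynomial.Eval.Coeff
import Mathlib.RingTheory.Localization.Basic
import Mathlib.RingTheory.Polynomial.Basic

set_option backward.isDefEq.respectTransparency false
set_option linter.style.haveILetI false

universe u v w t m

open TensorProduct

noncomputable section

namespace Groth.Agent.CotT3

open _root_.CotT

theorem eq_zero_of_linear_mul {R : Type*} [CommRing R] (u : R) {x : Polynomial R}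
    (h : (Polynomial.C u * Polynomial.X - 1) * x = 0) : x = 0 := by
  ext n
  induction n with
  | zero =>
    have h0 := congrArg (fun p => p.coeff 0) h
    simpa [sub_mul, mul_assoc, Polynomial.mul_coeff_zero] using h0
  | succ n ih =>
    have h0 := congrArg (fun p => p.coeff (n + 1)) h
    simp only [sub_mul, one_mul, mul_assoc, Polynomial.coeff_sub, Polynomial.coeff_C_mul,
      Polynomial.coeff_X_mul, Polynomial.coeff_zero, ih, mul_zero, zero_sub] at h0
    simpa using h0

variable {A : Type u} [CommRing A] (S : Submonoid A) (L : Type v) [CommRing L] [Algebra A L] [IsLocalization S L]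

/-- Generators of a localization: the inverses. -/
def invGen : Algebra.Generators A L S :=
  Algebra.Generators.ofSurjective (fun s => IsLocalization.mk' L (1 : A) s) fun y => by
    obtain ⟨a, s, rfl⟩ := IsLocalization.exists_mk'_eq S y
    refine ⟨MvPolynomial.C a * MvPolynomial.X s, ?_⟩
    rw [map_mul, MvPolynomial.aeval_C, MvPolynomial.aeval_X]
    exact (IsLocalization.mk'_eq_mul_mk'_one _ _).symm

theorem invGen_ker : (invGen S L).ker =
    Ideal.span (Set.range fun s : S => MvPolynomial.C (s : A) * MvPolynomial.X s - 1) := by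
  rw [Algebra.Generators.ker_eq_ker_aeval_val]
  let J : Ideal (MvPolynomial S A) :=
    Ideal.span (Set.range fun s : S => MvPolynomial.C (s : A) * MvPolynomial.X s - 1)
  have hv : ∀ s : S, (invGen S L).val s = IsLocalization.mk' L (1 : A) s := fun s => rfl
  have hle : J ≤ RingHom.ker (MvPolynomial.aeval (invGen S L).val) := by
    refine Ideal.span_le.2 ?_
    rintro _ ⟨s, rfl⟩
    rw [SetLike.mem_coe, RingHom.mem_ker, map_sub, map_mul, MvPolynomial.aeval_C, MvPolynomial.aeval_X, hv,
      IsLocalization.mk'_spec'_mk, map_one, map_one, sub_self]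
  refine le_antisymm (fun x hx => ?_) hle
  let φ : A →+* MvPolynomial S A ⧸ J := (Ideal.Quotient.mk J).comp MvPolynomial.C
  have hinv : ∀ s : S, φ s * Ideal.Quotient.mk J (MvPolynomial.X s) = 1 := fun s => by
    rw [RingHom.comp_apply, ← map_mul, ← sub_eq_zero, ← map_one (Ideal.Quotient.mk J), ← map_sub,
      Ideal.Quotient.eq_zero_iff_mem]
    exact Ideal.subset_span ⟨s, rfl⟩
  have hu : ∀ s : S, IsUnit (φ s) := fun s => IsUnit.of_mul_eq_one _ (hinv s)
  let θ : L →+* MvPolynomial S A ⧸ J := IsLocalization.lift hu
  have key : θ.comp (MvPolynomial.aeval (invGen S L).val).toRingHom = Ideal.Quotient.mk J := by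
    refine MvPolynomial.ringHom_ext (fun a => ?_) (fun s => ?_)
    · change θ (MvPolynomial.aeval (invGen S L).val (MvPolynomial.C a)) = _
      rw [MvPolynomial.aeval_C]
      exact IsLocalization.lift_eq hu a
    · change θ (MvPolynomial.aeval (invGen S L).val (MvPolynomial.X s)) = _
      rw [MvPolynomial.aeval_X, hv]
      change IsLocalization.lift hu _ = _
      rw [IsLocalization.lift_mk'_spec, map_one]
      exact (hinv s).symm
  have := RingHom.congr_fun key x
  rw [RingHom.comp_apply, show (MvPolynomial.aeval (invGen S L).val).toRingHom x = 0 from hx, map_zero] at this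
  exact Ideal.Quotient.eq_zero_iff_mem.1 this.symm

/-- The presentation of a localization by inverses. -/
def invPres : Algebra.Presentation A L S S where
  toGenerators := invGen S L
  relation s := MvPolynomial.C (s : A) * MvPolynomial.X s - 1
  span_range_relation_eq_ker := (invGen_ker S L).symm

theorem regA_inverse {n : ℕ} (c : Fin n → A) {σ : Type*} (f : Fin n → σ) (hf : Function.Injective f) :
    RegA (fun i => MvPolynomial.C (c i) * MvPolynomial.X (f i) - 1 : Fin n → MvPolynomial σ A) := by
  classical
  intro i x hx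
  let τ := {j : σ // j ≠ f i}
  let e : MvPolynomial σ A ≃ₐ[A] Polynomial (MvPolynomial τ A) :=
    (MvPolynomial.renameEquiv A (Equiv.optionSubtypeNe (f i)).symm).trans (MvPolynomial.optionEquivLeft A τ)
  have he_i : e (MvPolynomial.X (f i)) = Polynomial.X := by
    simp [e]; exact MvPolynomial.optionEquivLeft_X_none A τ
  have he_ne : ∀ j (hj : j ≠ f i), e (MvPolynomial.X j) = Polynomial.C (MvPolynomial.X ⟨j, hj⟩) := fun j hj => by
    simp [e, Equiv.optionSubtypeNe_symm_of_ne hj]; exact MvPolynomial.optionEquivLeft_X_some A τ _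
  have he_C : ∀ a, e (MvPolynomial.C a) = Polynomial.C (MvPolynomial.C a) := fun a => by
    rw [← MvPolynomial.algebraMap_eq, AlgEquiv.commutes]
    rfl
  have hne : ∀ j, j < i → f j ≠ f i := fun j hj h => (ne_of_lt hj) (hf h)
  let J0 : Ideal (MvPolynomial τ A) := Ideal.span {z | ∃ (j : Fin n) (hj : j < i),
    z = MvPolynomial.C (c j) * MvPolynomial.X (⟨f j, hne j hj⟩ : τ) - 1}
  have hmap : (Ideal.span ((fun i => MvPolynomial.C (c i) * MvPolynomial.X (f i) - 1 : Fin n → MvPolynomial σ A) '' Set.Iio i)).map
      (e : MvPolynomial σ A →+* Polynomial (MvPolynomial τ A)) = J0.map Polynomial.C := by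
    rw [Ideal.map_span, Ideal.map_span]
    congr 1
    ext z
    constructor
    · rintro ⟨_, ⟨j, hj, rfl⟩, rfl⟩
      refine ⟨_, ⟨j, hj, rfl⟩, ?_⟩
      change _ = e _
      rw [map_sub, map_mul, map_one, map_sub, map_mul, map_one, he_C, he_ne _ (hne j hj)]
    · rintro ⟨_, ⟨j, hj, rfl⟩, rfl⟩
      refine ⟨_, ⟨j, hj, rfl⟩, ?_⟩
      change e _ = _
      rw [map_sub, map_mul, map_one, map_sub, map_mul, map_one, he_C, he_ne _ (hne j hj)]
  have hx' := Ideal.mem_map_of_mem (e : MvPolynomial σ A →+* Polynomial (MvPolynomial τ A)) hx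
  rw [hmap] at hx'
  change e _ ∈ _ at hx'
  rw [map_mul, map_sub, map_mul, map_one, he_C, he_i] at hx'
  have hker : RingHom.ker (Polynomial.mapRingHom (Ideal.Quotient.mk J0)) = J0.map Polynomial.C := by
    rw [Polynomial.ker_mapRingHom, Ideal.mk_ker]
  rw [← hker, RingHom.mem_ker] at hx'
  simp only [map_mul, map_sub, map_one, Polynomial.coe_mapRingHom, Polynomial.map_C, Polynomial.map_X] at hx'
  have h0 := eq_zero_of_linear_mul _ hx'
  have : e x ∈ J0.map Polynomial.C := by rw [← hker, RingHom.mem_ker]; exact h0
  rw [← hmap] at this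
  obtain ⟨y, hy, hyx⟩ := (Ideal.mem_map_iff_of_surjective _ e.surjective).1 this
  exact e.injective hyx ▸ hy

theorem subsingleton_L2_invPres : Subsingleton (L2 (invPres S L)) := by
  classical
  refine subsingleton_of_forall_eq 0 fun z => ?_
  obtain ⟨q, rfl⟩ := L2mk_surjective (invPres S L) z
  rw [L2mk_eq_zero_iff]
  let T := (q : relMod (invPres S L)).support
  let f : Fin T.card → S := fun i => (T.equivFin.symm i : S)
  have hf : Function.Injective f := Subtype.val_injective.comp T.equivFin.symm.injective
  have hreg := regA_inverse (σ := S) (fun i => ((f i : S) : A)) f hf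
  let a : Fin T.card → (invPres S L).toExtension.Ring := fun i => rel (invPres S L) (f i)
  let r : Fin T.card → (invPres S L).toExtension.Ring := fun i => (q : relMod (invPres S L)) (f i)
  let E : (Fin T.card → (invPres S L).toExtension.Ring) →ₗ[(invPres S L).toExtension.Ring] relMod (invPres S L) :=
    Fintype.linearCombination _ (fun i => Finsupp.single (f i) 1)
  have hE : ∀ b, jmap (invPres S L) (E b) = dotA a b := fun b => by
    simp [E, Fintype.linearCombination_apply, dotA_apply, map_sum, a]
  have hEt : (trivA a).map E ≤ trivRel (invPres S L) := by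
    rw [trivA, Submodule.map_span, Submodule.span_le]
    rintro _ ⟨_, ⟨b, c, rfl⟩, rfl⟩
    exact Submodule.subset_span ⟨E b, E c, by rw [map_sub, map_smul, map_smul, hE, hE]⟩
  have hq : (q : relMod (invPres S L)) = E r := by
    conv_lhs => rw [← Finsupp.sum_single (q : relMod (invPres S L))]
    simp only [E, r, Fintype.linearCombination_apply, Finsupp.sum, Finsupp.smul_single, smul_eq_mul, mul_one]
    rw [← Finset.sum_coe_sort]
    exact Fintype.sum_equiv T.equivFin _ _ fun i => by simp [f]
  rw [hq]
  exact hEt ⟨r, mem_trivA_of_regA a hreg r (by rw [← hE, ← hq]; exact q.2), rfl⟩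

include S in
theorem subsingleton_T2_localization (M : Type m) [AddCommGroup M] [Module L M] :
    Subsingleton (T2 (CotT.canon A L) M) := by
  haveI := subsingleton_L2_invPres S L
  haveI := subsingleton_T2_of_subsingleton_L2 (invPres S L) M
  exact subsingleton_T2_of_presentation M (CotT.canon A L) (invPres S L)

end Groth.Agent.CotT3
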