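/-
The nine-term sequence of T⁰, T¹, T² for A → B → C.
-/
import Groth.Agent.Lib.CotT3.CompPres
import Groth.Agent.Lib.CotT3.ChaseAdd

set_option backward.isDefEq.respectTransparency false

universe u v v' w t w' t' m

open TensorProduct

noncomputable section

namespace Groth.Agent.CotT3

open _root_.CotT

variable {A : Type u} {B : Type v} {C : Type v'} {ι : Type w} {σ : Type t} {ι' : Type w'} {σ' : Type t'}
variable [CommRing A] [CommRing B] [CommRing C] [Algebra A B] [Algebra B C] [Algebra A C] [IsScalarTower A B C]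
variable (P : Algebra.Presentation A B ι σ) (Q : Algebra.Presentation B C ι' σ')
variable (M : Type m) [AddCommGroup M] [Module C M] [Module B M] [IsScalarTower B C M]

theorem L0map_toComp_basis (i : ι) :
    (toCompHom P Q).L0map (P.cotangentSpaceBasis i) = (Q.comp P).cotangentSpaceBasis (Sum.inr i) := by
  rw [show P.cotangentSpaceBasis i = (1 : B) ⊗ₜ KaehlerDifferential.D A P.toExtension.Ring (MvPolynomial.X i) from
    Algebra.Generators.cotangentSpaceBasis_apply P.toGenerators i, L0map_one_tmul_D]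
  refine ((congrArg (fun z : (Q.comp P).toExtension.Ring => (1 : C) ⊗ₜ KaehlerDifferential.D A (Q.comp P).toExtension.Ring z)
    (ringHom_X (toCompHom P Q) i)).trans ?_)
  exact (Algebra.Generators.cotangentSpaceBasis_apply (Q.comp P).toGenerators (Sum.inr i)).symm

theorem L0map_ofComp_inl (i : ι') :
    (ofCompHom P Q).L0map ((Q.comp P).cotangentSpaceBasis (Sum.inl i)) = Q.cotangentSpaceBasis i := by
  rw [show (Q.comp P).cotangentSpaceBasis (Sum.inl i) =
    (1 : C) ⊗ₜ KaehlerDifferential.D A (Q.comp P).toExtension.Ring (MvPolynomial.X (Sum.inl i)) from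
    Algebra.Generators.cotangentSpaceBasis_apply (Q.comp P).toGenerators (Sum.inl i), L0map_one_tmul_D]
  refine ((congrArg (fun z : Q.toExtension.Ring => (1 : C) ⊗ₜ KaehlerDifferential.D B Q.toExtension.Ring z)
    (ringHom_X (ofCompHom P Q) (Sum.inl i))).trans ?_)
  exact (Algebra.Generators.cotangentSpaceBasis_apply Q.toGenerators i).symm

theorem L0map_ofComp_inr (i : ι) :
    (ofCompHom P Q).L0map ((Q.comp P).cotangentSpaceBasis (Sum.inr i)) = 0 := by
  rw [show (Q.comp P).cotangentSpaceBasis (Sum.inr i) =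
    (1 : C) ⊗ₜ KaehlerDifferential.D A (Q.comp P).toExtension.Ring (MvPolynomial.X (Sum.inr i)) from
    Algebra.Generators.cotangentSpaceBasis_apply (Q.comp P).toGenerators (Sum.inr i), L0map_one_tmul_D]
  refine ((congrArg (fun z : Q.toExtension.Ring => (1 : C) ⊗ₜ KaehlerDifferential.D B Q.toExtension.Ring z)
    (ringHom_X (ofCompHom P Q) (Sum.inr i))).trans ?_)
  have : KaehlerDifferential.D B Q.toExtension.Ring (algebraMap B Q.toExtension.Ring (P.val i)) = 0 :=
    Derivation.map_algebraMap _ _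
  change (1 : C) ⊗ₜ KaehlerDifferential.D B Q.toExtension.Ring (algebraMap B Q.toExtension.Ring (P.val i)) = 0
  rw [this, tmul_zero]

section Split

variable {κ : Type*} {κ' : Type*} {X : Type*} {Y : Type*} {Z : Type*}
variable [AddCommGroup X] [Module B X] [AddCommGroup Y] [Module C Y] [AddCommGroup Z] [Module C Z]

theorem split_exact (bX : Module.Basis κ B X) (bY : Module.Basis (κ' ⊕ κ) C Y) (bZ : Module.Basis κ' C Z)
    (f : X →ₛₗ[(algebraMap B C : B →+* C)] Y) (g : Y →ₛₗ[(algebraMap C C : C →+* C)] Z)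
    (hf : ∀ i, f (bX i) = bY (Sum.inr i)) (hl : ∀ i, g (bY (Sum.inl i)) = bZ i)
    (hr : ∀ i, g (bY (Sum.inr i)) = 0)
    (G : (Z →ₗ[C] M) → (Y →ₗ[C] M)) (hG : ∀ φ y, G φ y = φ (g y))
    (F : (Y →ₗ[C] M) → (X →ₗ[B] M)) (hF : ∀ φ x, F φ x = φ (f x)) :
    Function.Injective G ∧ Function.Exact G F ∧ Function.Surjective F := by
  refine ⟨fun φ ψ h => bZ.ext fun i => ?_, fun φ => ⟨fun h => ?_, ?_⟩, fun ψ => ?_⟩
  · rw [← hl, ← hG φ, ← hG ψ, h]
  · refine ⟨bZ.constr C fun i => φ (bY (Sum.inl i)), bY.ext fun i => ?_⟩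
    rw [hG]
    cases i with
    | inl i => rw [hl, Module.Basis.constr_basis]
    | inr i => rw [hr, map_zero, ← hf, ← hF, h, LinearMap.zero_apply]
  · rintro ⟨χ, rfl⟩
    refine bX.ext fun i => ?_
    rw [hF, hG, hf, hr, map_zero, LinearMap.zero_apply]
  · refine ⟨bY.constr C (Sum.elim (fun _ => 0) fun i => ψ (bX i)), bX.ext fun i => ?_⟩
    rw [hF, hf, Module.Basis.constr_basis, Sum.elim_inr]

end Split

theorem pull2_exact :
    Function.Injective ((ofCompHom P Q).pull2 M) ∧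
      Function.Exact ((ofCompHom P Q).pull2 M) ((toCompHom P Q).pull2 M) := by
  refine ⟨fun φ ψ h => LinearMap.ext fun z => ?_, fun φ => ⟨fun h => ?_, ?_⟩⟩
  · obtain ⟨y, rfl⟩ := ofComp_L2map_surjective P Q z
    exact LinearMap.congr_fun h y
  · have hk : ∀ y, (ofCompHom P Q).L2map y = 0 → φ y = 0 := by
      intro y hy
      have hy' := L2map_ker_le P Q hy
      clear hy
      induction hy' using Submodule.span_induction with
      | mem x hx =>
        obtain ⟨p, rfl⟩ := hx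
        exact LinearMap.congr_fun h p
      | zero => exact map_zero φ
      | add x y _ _ hx hy => rw [map_add, hx, hy, add_zero]
      | smul r x _ hx => rw [map_smul, hx, smul_zero]
    have hwd : ∀ y y', (ofCompHom P Q).L2map y = (ofCompHom P Q).L2map y' → φ y = φ y' := fun y y' e =>
      sub_eq_zero.1 ((map_sub φ y y').symm.trans (hk _ (by rw [map_sub, e, sub_self])))
    choose s hs using ofComp_L2map_surjective P Q
    refine ⟨{ toFun := fun z => φ (s z), map_add' := fun a b => ?_, map_smul' := fun r a => ?_ },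
      LinearMap.ext fun y => hwd _ _ (hs _)⟩
    · rw [← map_add]; exact hwd _ _ (by rw [map_add, hs, hs, hs])
    · rw [RingHom.id_apply, ← map_smul]
      exact hwd _ _ (by rw [LinearMap.map_smulₛₗ, hs, hs]; rfl)
  · rintro ⟨χ, rfl⟩
    refine LinearMap.ext fun z => ?_
    rw [PresHom.pull2_apply, PresHom.pull2_apply, ofComp_toComp_L2map, map_zero]
    rfl

theorem nine_term_comp :
    Function.Injective ((ofCompHom P Q).T0pull M) ∧
    Function.Exact ((ofCompHom P Q).T0pull M) ((toCompHom P Q).T0pull M) ∧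
    Function.Exact ((ofCompHom P Q).T1pull M) ((toCompHom P Q).T1pull M) ∧
    Function.Exact ((ofCompHom P Q).T2pull M) ((toCompHom P Q).T2pull M) ∧
    ∃ (δ₀ : T0 P M →+ T1 Q M) (δ₁ : T1 P M →+ T2 Q M),
      Function.Exact ((toCompHom P Q).T0pull M) δ₀ ∧ Function.Exact δ₀ ((ofCompHom P Q).T1pull M) ∧
      Function.Exact ((toCompHom P Q).T1pull M) δ₁ ∧ Function.Exact δ₁ ((ofCompHom P Q).T2pull M) := by
  obtain ⟨i0, e0, s0⟩ := split_exact (B := B) (C := C) M P.cotangentSpaceBasis (Q.comp P).cotangentSpaceBasis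
    Q.cotangentSpaceBasis (toCompHom P Q).L0map (ofCompHom P Q).L0map (L0map_toComp_basis P Q)
    (L0map_ofComp_inl P Q) (L0map_ofComp_inr P Q) ((ofCompHom P Q).pull0 M) (fun _ _ => rfl)
    ((toCompHom P Q).pull0 M) (fun _ _ => rfl)
  obtain ⟨i1, e1, s1⟩ := split_exact (B := B) (C := C) M (L1basis P) (L1basis (Q.comp P)) (L1basis Q)
    (toCompHom P Q).L1map (ofCompHom P Q).L1map (L1map_toComp_basis P Q)
    (L1map_ofComp_inl P Q) (L1map_ofComp_inr P Q) ((ofCompHom P Q).pull1 M) (fun _ _ => rfl)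
    ((toCompHom P Q).pull1 M) (fun _ _ => rfl)
  obtain ⟨i2, e2⟩ := pull2_exact P Q M
  exact ChaseAdd.longExact (d1Star Q M) (d2Star Q M) (d1Star (Q.comp P) M) (d2Star (Q.comp P) M)
    (d1Star P M) (d2Star P M) (fun y => LinearMap.congr_fun (d2Star_comp_d1Star (Q.comp P) M) y)
    ((ofCompHom P Q).pull0 M).toAddMonoidHom ((ofCompHom P Q).pull1 M).toAddMonoidHom
    ((ofCompHom P Q).pull2 M).toAddMonoidHom
    ((toCompHom P Q).pull0 M).toAddMonoidHom ((toCompHom P Q).pull1 M).toAddMonoidHom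
    ((toCompHom P Q).pull2 M).toAddMonoidHom
    (fun x => ((ofCompHom P Q).pull1_d1Star M x).symm) (fun x => ((ofCompHom P Q).pull2_d2Star M x).symm)
    (fun x => ((toCompHom P Q).pull1_d1Star M x).symm) (fun x => ((toCompHom P Q).pull2_d2Star M x).symm)
    i0 i1 i2 e0 e1 e2 s0 s1
    ((ofCompHom P Q).T0pull M).toAddMonoidHom (fun _ => rfl)
    ((toCompHom P Q).T0pull M).toAddMonoidHom (fun _ => rfl)
    ((ofCompHom P Q).T1pull M).toAddMonoidHom (fun x => ⟨(ofCompHom P Q).cocycles1Pull M x, rfl, rfl⟩)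
    ((toCompHom P Q).T1pull M).toAddMonoidHom (fun x => ⟨(toCompHom P Q).cocycles1Pull M x, rfl, rfl⟩)
    ((ofCompHom P Q).T2pull M).toAddMonoidHom (fun _ => rfl)
    ((toCompHom P Q).T2pull M).toAddMonoidHom (fun _ => rfl)

/-- Exactness passes across a bijection in the middle. -/
theorem exact_of_middle {α β γ δ' : Type*} [Zero γ] {f' : α → β} {g' : β → γ} {f : α → δ'} {g : δ' → γ}
    (e : δ' → β) (he : Function.Bijective e) (hf : ∀ a, e (f a) = f' a) (hg : ∀ d, g d = g' (e d))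
    (h : Function.Exact f' g') : Function.Exact f g := by
  intro d
  rw [hg]
  refine (h (e d)).trans ⟨?_, ?_⟩
  · rintro ⟨a, ha⟩; exact ⟨a, he.1 ((hf a).trans ha)⟩
  · rintro ⟨a, rfl⟩; exact ⟨a, (hf a).symm⟩

theorem exact_of_left {α β γ δ' : Type*} [Zero γ] {g' : β → α} {g : δ' → α} {k : α → γ}
    (e : δ' → β) (he : Function.Surjective e) (hg : ∀ d, g d = g' (e d)) (h : Function.Exact g' k) :
    Function.Exact g k := by
  intro a
  refine (h a).trans ⟨?_, ?_⟩
  · rintro ⟨b, rfl⟩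
    obtain ⟨d, rfl⟩ := he b
    exact ⟨d, hg d⟩
  · rintro ⟨d, rfl⟩
    exact ⟨e d, (hg d).symm⟩

theorem exact_of_right {α β γ δ' : Type*} [Zero β] [Zero δ'] {k : γ → α} {f' : α → β} {f : α → δ'}
    (e : δ' → β) (he : Function.Injective e) (he0 : e 0 = 0) (hf : ∀ a, e (f a) = f' a)
    (h : Function.Exact k f') : Function.Exact k f := by
  intro a
  refine Iff.trans ⟨fun ha => ?_, fun ha => ?_⟩ (h a)
  · rw [← hf, ha, he0]
  · exact he (by rw [hf, ha, he0])

theorem nine_term {ι'' : Type*} {σ'' : Type*} (W : Algebra.Presentation A C ι'' σ'')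
    (h₁ : PresHom W Q) (h₂ : PresHom P W) :
    Function.Injective (h₁.T0pull M) ∧
    Function.Exact (h₁.T0pull M) (h₂.T0pull M) ∧
    Function.Exact (h₁.T1pull M) (h₂.T1pull M) ∧
    Function.Exact (h₁.T2pull M) (h₂.T2pull M) ∧
    ∃ (δ₀ : T0 P M →+ T1 Q M) (δ₁ : T1 P M →+ T2 Q M),
      Function.Exact (h₂.T0pull M) δ₀ ∧ Function.Exact δ₀ (h₁.T1pull M) ∧
      Function.Exact (h₂.T1pull M) δ₁ ∧ Function.Exact δ₁ (h₁.T2pull M) := by
  obtain ⟨g⟩ := nonempty_presHom (Q.comp P) W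
  obtain ⟨hi, x0, x1, x2, δ₀, δ₁, a0, b0, a1, b1⟩ := nine_term_comp P Q M
  have f0 : ∀ x, g.T0pull M (h₁.T0pull M x) = (ofCompHom P Q).T0pull M x := fun x =>
    (T0pull_comp g h₁ M (ofCompHom P Q) x).symm
  have f1 : ∀ x, g.T1pull M (h₁.T1pull M x) = (ofCompHom P Q).T1pull M x := fun x =>
    (T1pull_comp g h₁ M (ofCompHom P Q) x).symm
  have f2 : ∀ x, g.T2pull M (h₁.T2pull M x) = (ofCompHom P Q).T2pull M x := fun x =>
    (T2pull_comp g h₁ M (ofCompHom P Q) x).symm
  have g0 : ∀ x, h₂.T0pull M x = (toCompHom P Q).T0pull M (g.T0pull M x) := fun x =>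
    T0pull_comp (toCompHom P Q) g M h₂ x
  have g1 : ∀ x, h₂.T1pull M x = (toCompHom P Q).T1pull M (g.T1pull M x) := fun x =>
    T1pull_comp (toCompHom P Q) g M h₂ x
  have g2 : ∀ x, h₂.T2pull M x = (toCompHom P Q).T2pull M (g.T2pull M x) := fun x =>
    T2pull_comp (toCompHom P Q) g M h₂ x
  have e0 := T0pull_bijective M g
  have e1 := T1pull_bijective M g
  have e2 := T2pull_bijective M g
  refine ⟨fun x y hxy => hi ?_, exact_of_middle _ e0 f0 g0 x0, exact_of_middle _ e1 f1 g1 x1,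
    exact_of_middle _ e2 f2 g2 x2, δ₀, δ₁, exact_of_left _ e0.2 g0 a0,
    exact_of_right _ e1.1 (map_zero _) f1 b0, exact_of_left _ e1.2 g1 a1,
    exact_of_right _ e2.1 (map_zero _) f2 b1⟩
  rw [← f0, ← f0, hxy]

end Groth.Agent.CotT3
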