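/-
T¹ and T² of regular algebras of finite type over a perfect field.
-/
import Groth.Agent.Lib.CotT3.Smooth
import Groth.Agent.Lib.RegSmooth17.Basic
import Groth.Agent.Lib.SmoothReg17.Basic
import Groth.Agent.Lib.RegLoc.Sop
import Groth.Agent.Lib.AdicSmooth.FieldFS
import Mathlib.FieldTheory.Perfect

set_option backward.isDefEq.respectTransparency false
set_option linter.style.haveILetI false

universe u v w t m

open TensorProduct

noncomputable section

namespace Groth.Agent.CotT3

open _root_.CotT

theorem RegA.prefix {R : Type*} [CommRing R] {c d : ℕ} (hc : c ≤ d) {x : Fin d → R} (hx : RegA x) :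
    RegA (fun i : Fin c => x (Fin.castLE hc i)) := by
  intro i y hy
  have e : (fun i : Fin c => x (Fin.castLE hc i)) '' Set.Iio i = x '' Set.Iio (Fin.castLE hc i) := by
    ext z
    constructor
    · rintro ⟨j, hj, rfl⟩
      exact ⟨_, (Fin.castLE_lt_castLE_iff hc).2 hj, rfl⟩
    · rintro ⟨j, hj, rfl⟩
      exact ⟨⟨j, lt_trans hj i.2⟩, hj, rfl⟩
  rw [e] at hy ⊢
  exact hx _ _ hy

theorem RegA.units_mul {R : Type*} [CommRing R] {n : ℕ} {x : Fin n → R} (hx : RegA x) (v : Fin n → Rˣ) :
    RegA (fun i => (v i : R) * x i) := by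
  have e : ∀ i, Ideal.span ((fun i => (v i : R) * x i) '' Set.Iio i) = Ideal.span (x '' Set.Iio i) := by
    intro i
    refine le_antisymm (Ideal.span_le.2 ?_) (Ideal.span_le.2 ?_)
    · rintro _ ⟨j, hj, rfl⟩
      exact Ideal.mul_mem_left _ _ (Ideal.subset_span ⟨j, hj, rfl⟩)
    · rintro _ ⟨j, hj, rfl⟩
      exact (Ideal.unit_mul_mem_iff_mem _ (v j).isUnit).1 (Ideal.subset_span ⟨j, hj, rfl⟩)
  intro i y hy
  rw [e] at hy ⊢
  refine (Ideal.unit_mul_mem_iff_mem _ (v i).isUnit).1 ?_
  exact hx i _ (by rwa [mul_left_comm, ← mul_assoc])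

section FiniteType

variable {k : Type u} {B : Type u} {ι : Type u} {σ : Type t}
variable [Field k] [CommRing B] [Algebra k B] [Finite ι]
variable (P : Algebra.Presentation k B ι σ)

theorem exists_regular_generators (p : Ideal P.toExtension.Ring) [p.IsPrime] (hp : P.toExtension.ker ≤ p)
    (hreg : ∀ (q : Ideal B) [q.IsPrime], IsRegularLocalRing (Localization.AtPrime q)) :
    ∃ (n : ℕ) (a : Fin n → P.toExtension.Ring), (∀ l, a l ∈ P.toExtension.ker) ∧
        P.toExtension.ker.map (algebraMap _ (Localization.AtPrime p)) =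
          Ideal.span (Set.range fun l => algebraMap _ (Localization.AtPrime p) (a l)) ∧
        RegA (fun l => algebraMap P.toExtension.Ring (Localization.AtPrime p) (a l)) := by
  let φ : P.toExtension.Ring →+* B := algebraMap _ _
  have hφ : Function.Surjective φ := algebraMap_surjective P
  let q : Ideal B := p.map φ
  haveI : q.IsPrime := Ideal.map_isPrime_of_surjective hφ hp
  have hqp : q.comap φ = p := by
    rw [Ideal.comap_map_of_surjective φ hφ]
    exact sup_eq_left.2 hp
  haveI : IsRegularLocalRing (Localization.AtPrime p) := by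
    have : IsRegularRing P.toExtension.Ring := inferInstanceAs (IsRegularRing (MvPolynomial ι k))
    exact IsRegularRing.isRegularLocalRing_localization p
  let ψ : Localization.AtPrime p →+* Localization.AtPrime q := Localization.localRingHom p q φ hqp.symm
  have hψ : Function.Surjective ψ := by
    intro y
    obtain ⟨b, s, rfl⟩ := IsLocalization.exists_mk'_eq q.primeCompl y
    obtain ⟨r, hr⟩ := hφ b
    obtain ⟨t, ht⟩ := hφ s
    have htp : t ∈ p.primeCompl := fun h => s.2 (ht ▸ Ideal.mem_map_of_mem φ h)
    refine ⟨IsLocalization.mk' _ r ⟨t, htp⟩, ?_⟩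
    rw [Localization.localRingHom_mk']
    simp only [hr]
    congr 1
    exact Subtype.ext ht
  let I' := P.toExtension.ker.map (algebraMap _ (Localization.AtPrime p))
  have hker : RingHom.ker ψ = I' := by
    refine le_antisymm (fun x hx => ?_) (Ideal.map_le_iff_le_comap.2 fun r hr => ?_)
    · obtain ⟨r, ⟨t, ht⟩, rfl⟩ := IsLocalization.exists_mk'_eq p.primeCompl x
      rw [RingHom.mem_ker, Localization.localRingHom_mk', IsLocalization.mk'_eq_zero_iff] at hx
      obtain ⟨⟨u, hu⟩, hur⟩ := hx
      obtain ⟨u', rfl⟩ := hφ u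
      have hu' : u' ∉ p := fun h => hu (Ideal.mem_map_of_mem φ h)
      have hmem : u' * r ∈ P.toExtension.ker := (map_mul φ u' r).trans hur
      rw [IsLocalization.mk'_eq_mul_mk'_one]
      refine Ideal.mul_mem_right _ _ ?_
      exact (Ideal.unit_mul_mem_iff_mem _ (IsLocalization.map_units (Localization.AtPrime p) (⟨u', hu'⟩ : p.primeCompl))).1
        (by rw [← map_mul]; exact Ideal.mem_map_of_mem _ hmem)
    · rw [Ideal.mem_comap, RingHom.mem_ker, Localization.localRingHom_to_map, RingHom.mem_ker.1 hr, map_zero]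
  haveI : IsRegularLocalRing (Localization.AtPrime p ⧸ I') := by
    haveI := hreg q
    exact IsRegularLocalRing.of_ringEquiv
      ((Ideal.quotEquivOfEq hker.symm).trans (RingHom.quotientKerEquivOfSurjective hψ)).symm
  obtain ⟨x, c, hc, hx, hI⟩ := RegLoc.exists_generators_of_regular_quotient _ (Localization.AtPrime p) I' rfl
  have hxreg : RegA x := (regA_iff_isWeaklyRegular x).2
    (RegLoc.isRegular_of_span_range _ (Localization.AtPrime p) x hx rfl).toIsWeaklyRegular
  have hlift : ∀ l : Fin c, ∃ (a : P.toExtension.Ring) (v : (Localization.AtPrime p)ˣ),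
      a ∈ P.toExtension.ker ∧
        algebraMap _ (Localization.AtPrime p) a = (v : Localization.AtPrime p) * x (Fin.castLE hc l) := by
    intro l
    have h1 : x (Fin.castLE hc l) ∈ I' := hI ▸ Ideal.subset_span ⟨l, rfl⟩
    obtain ⟨⟨⟨a, ha⟩, s⟩, h2⟩ := (IsLocalization.mem_map_algebraMap_iff p.primeCompl _).1 h1
    exact ⟨a, (IsLocalization.map_units (Localization.AtPrime p) s).unit, ha, by
      rw [IsUnit.unit_spec, mul_comm]; exact h2.symm⟩
  choose a v ha hav using hlift
  refine ⟨c, a, ha, ?_, ?_⟩
  · change I' = _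
    refine hI.trans (le_antisymm (Ideal.span_le.2 ?_) (Ideal.span_le.2 ?_))
    · rintro _ ⟨l, rfl⟩
      exact (Ideal.unit_mul_mem_iff_mem _ (v l).isUnit).1 (hav l ▸ Ideal.subset_span ⟨l, rfl⟩)
    · rintro _ ⟨l, rfl⟩
      change algebraMap _ (Localization.AtPrime p) (a l) ∈ _
      rw [hav l]
      exact Ideal.mul_mem_left _ _ (Ideal.subset_span ⟨l, rfl⟩)
  · rw [funext hav]
    exact (hxreg.prefix hc).units_mul v

end FiniteType

theorem formallySmooth_iff_forall_regular (k B : Type u) [Field k] [PerfectField k] [CommRing B] [Algebra k B]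
    [Algebra.FiniteType k B] :
    (∀ (q : Ideal B) [q.IsPrime], IsRegularLocalRing (Localization.AtPrime q)) ↔ Algebra.FormallySmooth k B := by
  have hfp : Algebra.FinitePresentation k B := Algebra.FinitePresentation.of_finiteType.1 inferInstance
  constructor
  · intro h
    refine Algebra.smoothLocus_eq_univ_iff.1 (Set.eq_univ_iff_forall.2 fun q => ?_)
    haveI := h q.asIdeal
    haveI : Algebra.FormallySmooth k q.asIdeal.ResidueField :=
      Groth.Agent.FieldFS.formallySmooth_of_perfectField k q.asIdeal.ResidueField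
    exact RegSmooth17.isSmoothAt_of_isRegularLocalRing k B q.asIdeal
  · intro h q _
    have : (algebraMap k B).Smooth := RingHom.smooth_algebraMap.2 ⟨h, hfp⟩
    exact SmoothReg17.isRegularLocalRing_of_smooth _ this q

theorem subsingleton_T2_of_regular (k B : Type u) [Field k] [PerfectField k] [CommRing B] [Algebra k B]
    [Algebra.FiniteType k B] (hreg : ∀ (q : Ideal B) [q.IsPrime], IsRegularLocalRing (Localization.AtPrime q))
    (M : Type m) [AddCommGroup M] [Module B M] : Subsingleton (T2 (CotT.canon k B) M) := by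
  haveI := (formallySmooth_iff_forall_regular k B).1 hreg
  obtain ⟨n, f, hf⟩ := Algebra.FiniteType.iff_quotient_mvPolynomial''.1 ‹Algebra.FiniteType k B›
  let g : Algebra.Generators k B (ULift.{u} (Fin n)) :=
    Algebra.Generators.ofAlgHom (f.comp (MvPolynomial.rename ULift.down)) (by
      rw [AlgHom.coe_comp]
      exact hf.comp (MvPolynomial.rename_surjective _ ULift.down_surjective))
  let P : Algebra.Presentation k B (ULift.{u} (Fin n)) g.ker :=
    { toGenerators := g
      relation := Subtype.val
      span_range_relation_eq_ker := by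
        refine le_antisymm (Ideal.span_le.2 ?_) fun x hx => Ideal.subset_span ⟨⟨x, hx⟩, rfl⟩
        rintro _ ⟨r, rfl⟩
        exact r.2 }
  haveI := subsingleton_T2_of_formallySmooth P
    (d2_injective_of_local P fun p _ hp => exists_regular_generators P p hp hreg) M
  exact subsingleton_T2_of_presentation M (CotT.canon k B) P

end Groth.Agent.CotT3
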