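/-
Morphisms of presentations which are isomorphisms of the data (R, relations) induce bijections on T².
-/
import Groth.Agent.Lib.CotT3.Comp

set_option backward.isDefEq.respectTransparency false

universe u v w t u' w' m

open TensorProduct

noncomputable section

namespace Groth.Agent.CotT3

open _root_.CotT

variable {A : Type u} {A' : Type u'} {B : Type v} {ι : Type w} {ι' : Type w'} {σ : Type t}
variable [CommRing A] [CommRing A'] [CommRing B] [Algebra A B] [Algebra A' B] [Algebra A A'] [IsScalarTower A A' B]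
variable {P : Algebra.Presentation A B ι σ} {P' : Algebra.Presentation A' B ι' σ}
variable (h : PresHom P P') (hbij : Function.Bijective h.ringHom) (hrel : ∀ s, h.relVal s = Finsupp.single s 1)

include hbij hrel

theorem relabel_relModMap_bijective : Function.Bijective h.relModMap := by
  have hap : ∀ f s, h.relModMap f s = h.ringHom (f s) := by
    intro f s
    induction f using Finsupp.induction_linear with
    | zero => simp
    | add f g hf hg => simp only [map_add, Finsupp.add_apply, hf, hg]
    | single s' r =>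
      rw [PresHom.relModMap_single, hrel]
      classical
      simp only [Finsupp.smul_single, smul_eq_mul, mul_one, Finsupp.single_apply]
      split <;> simp
  refine ⟨fun f g e => Finsupp.ext fun s => hbij.1 (by rw [← hap, ← hap, e]), fun g => ?_⟩
  choose r hr using hbij.2
  refine ⟨g.mapRange (fun x => r x) (hbij.1 (by rw [hr, map_zero])), Finsupp.ext fun s => ?_⟩
  rw [hap, Finsupp.mapRange_apply, hr]

theorem relabel_mem_trivRel {y : relMod P} (hy : h.relModMap y ∈ trivRel P') : y ∈ trivRel P := by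
  have hb := relabel_relModMap_bijective h hbij hrel
  suffices H : ∀ z ∈ trivRel P', ∃ x ∈ trivRel P, h.relModMap x = z by
    obtain ⟨x, hx, e⟩ := H _ hy
    rwa [← hb.1 e]
  intro z hz
  induction hz using Submodule.span_induction with
  | mem z hz =>
    obtain ⟨a, b, rfl⟩ := hz
    obtain ⟨a, rfl⟩ := hb.2 a
    obtain ⟨b, rfl⟩ := hb.2 b
    refine ⟨_, Submodule.subset_span ⟨a, b, rfl⟩, ?_⟩
    rw [map_sub, LinearMap.map_smulₛₗ, LinearMap.map_smulₛₗ, PresHom.jmap_relModMap, PresHom.jmap_relModMap]
  | zero => exact ⟨0, Submodule.zero_mem _, map_zero _⟩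
  | add a b _ _ ha hb =>
    obtain ⟨x, hx, rfl⟩ := ha
    obtain ⟨x', hx', rfl⟩ := hb
    exact ⟨x + x', Submodule.add_mem _ hx hx', map_add _ _ _⟩
  | smul r a _ ha =>
    obtain ⟨x, hx, rfl⟩ := ha
    obtain ⟨r, rfl⟩ := hbij.2 r
    exact ⟨r • x, Submodule.smul_mem _ _ hx, LinearMap.map_smulₛₗ _ _ _⟩

theorem relabel_L2map_bijective : Function.Bijective h.L2map := by
  have hb := relabel_relModMap_bijective h hbij hrel
  have hmk : ∀ q, h.L2map (L2mk P q) = L2mk P' (h.relKerMap q) := fun q => by
    rw [L2mk_apply, PresHom.L2map_mk_tmul, map_one]; rfl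
  refine ⟨(injective_iff_map_eq_zero h.L2map).2 fun z hz => ?_, fun z => ?_⟩
  · obtain ⟨q, rfl⟩ := L2mk_surjective P z
    rw [hmk, L2mk_eq_zero_iff, PresHom.relKerMap_coe] at hz
    exact (L2mk_eq_zero_iff P q).2 (relabel_mem_trivRel h hbij hrel hz)
  · obtain ⟨q, rfl⟩ := L2mk_surjective P' z
    obtain ⟨f, hf⟩ := hb.2 (q : relMod P')
    have hfk : f ∈ relKer P := by
      change jmap P f = 0
      refine hbij.1 ?_
      rw [← PresHom.jmap_relModMap, hf, map_zero]
      exact q.2
    exact ⟨L2mk P ⟨f, hfk⟩, by rw [hmk]; exact congrArg _ (Subtype.ext hf)⟩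

omit hbij in
theorem relabel_L1map_basis (s : σ) : h.L1map (L1basis P s) = L1basis P' s := by
  rw [L1basis_apply, L1basis_apply, PresHom.L1map_tmul, PresHom.relModMap_single, map_one, map_one, one_smul, hrel]

theorem T2pull_bijective_of_relabel (M : Type m) [AddCommGroup M] [Module B M] :
    Function.Bijective (h.T2pull M) := by
  have hb := relabel_L2map_bijective h hbij hrel
  have hinj : ∀ φ ψ : L2 P' →ₗ[B] M, h.pull2 M φ = h.pull2 M ψ → φ = ψ := fun φ ψ e =>
    LinearMap.ext fun z => by
      obtain ⟨y, rfl⟩ := hb.2 z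
      exact LinearMap.congr_fun e y
  choose s hs using hb.2
  have hs1 : ∀ χ : L1 P →ₗ[B] M, ∃ χ', h.pull1 M χ' = χ := fun χ =>
    ⟨(L1basis P').constr B fun i => χ (L1basis P i), (L1basis P).ext fun i => by
      rw [PresHom.pull1_apply, relabel_L1map_basis h hrel, Module.Basis.constr_basis]⟩
  refine ⟨(injective_iff_map_eq_zero _).2 fun x hx => ?_, fun x => ?_⟩
  · obtain ⟨φ, rfl⟩ := Submodule.Quotient.mk_surjective _ x
    rw [T2pull_mk, Submodule.Quotient.mk_eq_zero] at hx
    obtain ⟨χ, hχ⟩ := hx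
    obtain ⟨χ', rfl⟩ := hs1 χ
    rw [← PresHom.pull2_d2Star] at hχ
    rw [Submodule.Quotient.mk_eq_zero]
    exact ⟨χ', hinj _ _ hχ⟩
  · obtain ⟨φ, rfl⟩ := Submodule.Quotient.mk_surjective _ x
    refine ⟨Submodule.Quotient.mk
      { toFun := fun z => φ (s z)
        map_add' := fun a b => by rw [← map_add, hb.1 (a₁ := s (a + b)) (a₂ := s a + s b) (by rw [map_add, hs, hs, hs])]
        map_smul' := fun c a => by
          rw [RingHom.id_apply, ← map_smul, hb.1 (a₁ := s (c • a)) (a₂ := c • s a) (by
            rw [LinearMap.map_smulₛₗ, hs, hs]; rfl)] }, ?_⟩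
    rw [T2pull_mk]
    refine congrArg _ (LinearMap.ext fun y => ?_)
    change φ (s (h.L2map y)) = φ y
    rw [hb.1 (hs (h.L2map y))]

end Groth.Agent.CotT3
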